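import Cfsg.Agent.Mrg.Omega.SQ1.FFSymMain
import Cfsg.Agent.Mrg.Omega.FrameI
import Cfsg.Agent.Mrg.Omega.OM.PG.NoRad_m3
import Cfsg.Agent.Mrg.Omega.SQ1.FFKNat
import Cfsg.Agent.Mrg.Omega.NatPair.Pair
import Cfsg.Agent.Mrg.Omega.TC.Crit_m3
import Cfsg.Agent.FastGrp
import Cfsg.Agent.Prune
set_option linter.all false
prune_inst 0x7ff0fefbaffdbfffffff7e7ffff7dffdf9f8ffffffdffbfbffeaebffdfff4b8cfbedffa7ffead2ff5ef6e2bcb0f87b53fdffefffea6bdc7ffffd5ff45ffbff9fbfeebd8d71d6bc3e1ffe6ffffbf97fce7f3fffffffffffffffffffffffffffbeffffffffffff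
open scoped Cfsg.Agent.FastGrp

-- merged: Cfsg.Agent.Mrg.Omega.NO3S.OneLine.Sym
section

section


/-!
# LEMMA OL: the even-subset modules for a minimal parabolic

`syT` : `FFThm.SymK` gives the module data `SyT` of `SQ1/FFSymT.lean` for every minimal parabolic (in
`SQ1/FFSymMain.lean` this is proved for the chosen configuration of the strongly quasithin part);
`SymK.no_fix` : if `m ≥ 2`, `T` does not centralise `Ω₁(Z(J(T)))`.
-/

set_option autoImplicit false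
set_option linter.unusedSectionVars false
set_option linter.unusedVariables false

namespace Cfsg.Agent.Omega.NO3S.OneLine

open Subgroup Cfsg Cfsg.Agent.PLocal.ThompsonJ Cfsg.Agent.ZN Cfsg.Agent.ZN.ChoiceBase
open Cfsg.Agent.ZN.ChoiceSit
open Cfsg.Agent.Omega.SQ1 Cfsg.Agent.Omega.SQ1.FFOne Cfsg.Agent.Omega.SQ1.VOf Cfsg.Agent.Omega.SQ1.FFSym
open Cfsg.Agent.Omega.FFThm (ActsSym SymK NoOver Off)
open Cfsg.Agent.Omega.SQ1.BauS (Sim)
open Cfsg.Agent.Omega.FrameFF (cv)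

universe v

variable {G : Type v} [Group G] {M₀ T H D : Subgroup G} {s : G} {k m : ℕ}

/-- **An element of `H` which centralises `D` and `V / D` centralises `V`.** -/
theorem cent (c : MinH H T) [Finite G] (N : SymK T H (zl T H) D k m) (hk : 0 < k)
    (hm : 1 ≤ m) (hDV : D ≤ zl T H) (hDn : ∀ h ∈ H, ∀ v ∈ D, h * v * h⁻¹ ∈ D) {g : G} (hg : g ∈ H)
    (h1 : ∀ d ∈ D, g * d = d * g) (h2 : ∀ v ∈ zl T H, N.e (g * v * g⁻¹) = N.e v) :
    ∀ v ∈ zl T H, g * v = v * g := by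
  have hV : ∀ g ∈ H, ∀ v ∈ zl T H, g * v * g⁻¹ ∈ zl T H := zl_norm
  set R := Ker T H (zl T H) D N hV with hR
  set F := Fix0 T H (zl T H) D N hV with hF
  have hTF : T ≤ F := by
    intro t ht
    obtain ⟨σ, τ, hta⟩ := N.perm t (c.syl.1 ht)
    refine ⟨c.syl.1 ht, σ, fun v hv i => ?_⟩
    have h3 := hta v hv i 0
    rwa [N.fix0 t ht σ τ hta i] at h3
  have hRF : R ≤ F := fun x hx => ⟨hx.1, 1, fun v hv i => by
    rw [hx.2.2 v hv, Equiv.Perm.one_apply]⟩
  have hRn : ∀ h ∈ H, ∀ r ∈ R, h * r * h⁻¹ ∈ R := by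
    rintro x hx r ⟨hr, hr1, hr2⟩
    refine ⟨mul_mem (mul_mem hx hr) (inv_mem hx), fun d hd => ?_, fun v hv => ?_⟩
    · have hd' : x⁻¹ * d * x ∈ D := by
        have := hDn x⁻¹ (inv_mem hx) d hd
        rwa [inv_inv] at this
      have h3 := hr1 _ hd'
      calc x * r * x⁻¹ * d = x * (r * (x⁻¹ * d * x)) * x⁻¹ := by group
        _ = x * ((x⁻¹ * d * x) * r) * x⁻¹ := by rw [h3]
        _ = _ := by group
    · set w := x⁻¹ * v * x with hw
      have hwV : w ∈ zl T H := by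
        have := hV x⁻¹ (inv_mem hx) v hv
        rwa [inv_inv] at this
      obtain ⟨σ, τ, hxa⟩ := N.perm x hx
      have e1 : x * r * x⁻¹ * v * (x * r * x⁻¹)⁻¹ = x * (r * w * r⁻¹) * x⁻¹ := by rw [hw]; group
      have e2 : v = x * w * x⁻¹ := by rw [hw]; group
      rw [e1]
      conv_rhs => rw [e2]
      funext i y
      have h3 := hxa _ (hV r hr w hwV) (σ⁻¹ i) ((τ (σ⁻¹ i))⁻¹ y)
      have h4 := hxa w hwV (σ⁻¹ i) ((τ (σ⁻¹ i))⁻¹ y)
      rw [perm_inv_self, perm_inv_self] at h3 h4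
      rw [h3, h4, hr2 w hwV]
  have hne : R ⊔ T ≠ H := by
    intro hcon
    obtain ⟨a, b, ha, hb, hab⟩ := exists_three_pts hm
    obtain ⟨x, hx, hxa, -⟩ := N.lift (Pi.mulSingle ⟨0, hk⟩ (Equiv.swap 0 a))
    have hxF : x ∈ F := (sup_le hRF hTF) (by rw [hcon]; exact hx)
    obtain ⟨-, σ, hσ⟩ := hxF
    set j : Fin k := ⟨0, hk⟩ with hj
    obtain ⟨v, hv, hev⟩ := N.surj (E j a + E j b) fun i => by
      simp only [Pi.add_apply, Finset.sum_add_distrib, E_sum]
      exact CharTwo.add_self_eq_zero _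
    have h3 := hxa v hv j a
    have h4 := hσ v hv (σ⁻¹ j)
    rw [perm_inv_self] at h4
    rw [Equiv.Perm.one_apply, Pi.mulSingle_eq_same, Equiv.swap_apply_right, h4, hev] at h3
    simp only [Pi.add_apply, E, true_and, if_true, hab, if_false, add_zero] at h3
    rw [if_neg (fun h => ha h.2.symm), if_neg (fun h => hb h.2.symm), add_zero] at h3
    exact absurd h3 (by decide)
  have hRH : R ≤ H := fun x hx => hx.1
  have h3 := c.inf_le hRH hRn hne
  -- 2-elements of `R`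
  have h4 : ∀ x ∈ R, (∃ n : ℕ, x ^ 2 ^ n = 1) → ∀ v ∈ zl T H, x * v = v * x := by
    intro x hx hx2
    obtain ⟨y, hy, hyT⟩ := syl_elt c.syl hx.1 hx2
    have h5 := h3 ⟨hyT, hRn y hy x hx⟩
    have h6 : x ∈ o2 H := by
      have := conj_mem_of_norm (le_normalizer_o2 H (inv_mem hy)) h5
      have e1 : y⁻¹ * (y * x * y⁻¹) * y⁻¹⁻¹ = x := by group
      rwa [e1] at this
    exact MinH.o2_cent c x h6
  -- squares
  have h5 : ∀ v ∈ zl T H, (g * g) * v = v * (g * g) := by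
    intro v hv
    have hv' := hV g hg v hv
    have hδ : g * v * g⁻¹ * v ∈ D := by
      rw [← N.ker _ (mul_mem hv' hv), N.mul _ hv' v hv, h2 v hv]
      funext i x
      exact CharTwo.add_self_eq_zero _
    have hvv : v * v = 1 := by
      rw [← pow_two]; exact MinH.sq c v hv
    have hδδ : (g * v * g⁻¹ * v) * (g * v * g⁻¹ * v) = 1 := by
      rw [← pow_two]; exact MinH.sq c _ (hDV hδ)
    have h6 := h1 _ hδ
    set δ := g * v * g⁻¹ * v with hδd
    have e1 : g * v * g⁻¹ = δ * v := by rw [hδd, mul_assoc (g * v * g⁻¹), hvv, mul_one]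
    have e2 : g * g * v * (g * g)⁻¹ = v := by
      calc g * g * v * (g * g)⁻¹ = g * (g * v * g⁻¹) * g⁻¹ := by group
        _ = (g * δ) * v * g⁻¹ := by rw [e1]; group
        _ = δ * (g * v * g⁻¹) := by rw [h6]; group
        _ = v := by rw [e1, ← mul_assoc, hδδ, one_mul]
    calc g * g * v = (g * g * v * (g * g)⁻¹) * (g * g) := by group
      _ = v * (g * g) := by rw [e2]
  obtain ⟨n, hn, hN⟩ := SymCyc.exists_pow g 1
  have hgR : g ∈ R := ⟨hg, h1, h2⟩
  have h6 := h4 (g ^ n) (pow_mem hgR n) hN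
  have hn' : n = 2 * (n / 2) + 1 := by
    have : n % 2 = 1 := by simpa using hn
    omega
  intro v hv
  have c1 : Commute (g ^ n) v := h6 v hv
  have c2 : Commute ((g * g) ^ (n / 2)) v := (show Commute (g * g) v from h5 v hv).pow_left _
  have e1 : g = ((g * g) ^ (n / 2))⁻¹ * g ^ n := by
    rw [← pow_two, ← pow_mul]
    conv_rhs => rw [hn', pow_succ]
    rw [show 2 * (n / 2) + 1 = 2 * (n / 2) + 1 from rfl]
    have : 2 * ((2 * (n / 2) + 1) / 2) = 2 * (n / 2) := by omega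
    rw [this, inv_mul_cancel_left]
  have c3 : Commute (((g * g) ^ (n / 2))⁻¹ * g ^ n) v := (c2.inv_left).mul_left c1
  rw [← e1] at c3
  exact c3.eq

/-- **The module data of the chosen configuration.** -/
theorem syT (c : MinH H T) [Finite G]
    (hcs : (H ⊓ centralizer (zl T H : Set G)) ⊔ T ≠ H) (hoff : ∃ A ∈ AA T, Off (zl T H) A)
    (hno : NoOver (zl T H) H)
    (N : SymK T H (zl T H) D k m) (hk : 0 < k)
    (hm : 1 ≤ m) (hDV : D ≤ zl T H) (hDn : ∀ h ∈ H, ∀ v ∈ D, h * v * h⁻¹ ∈ D) :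
    SyT T H (o2 H) (zl T H) D (0 : Fin (2 ^ m + 1)) N.e where
  n3 := by
    have : 2 ≤ 2 ^ m := by
      calc 2 = 2 ^ 1 := (pow_one 2).symm
        _ ≤ 2 ^ m := Nat.pow_le_pow_right (by norm_num) hm
    omega
  n4 := by
    intro h4
    have h5 : 2 ∣ 2 ^ m := dvd_pow_self 2 (by omega)
    omega
  DV := hDV
  Vn := zl_norm
  Dn := hDn
  comm := MinH.comm c
  sq := MinH.sq c
  mul := N.mul
  even := N.even
  surj := N.surj
  ker := N.ker
  lift := N.lift
  perm := N.perm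
  cent := fun g hg h1 h2 => cent c N hk hm hDV hDn hg h1 h2
  TH := c.syl.1
  Tp := c.syl.2.1
  QT := o2_le_syl c.syl
  VQ := MinH.zl_le_o2 c
  Qn := fun g hg x hx => conj_mem_of_norm (le_normalizer_o2 H hg) hx
  VcQ := MinH.o2_cent c
  cT := fun x hx hc => c.inf_le inf_le_left cent_norm hcs
    ⟨hx, c.syl.1 hx, mem_centralizer_iff.2 fun v hv => (hc v hv).symm⟩
  syl := fun x hx h2 => syl_elt c.syl hx h2
  trans := N.trans
  fix0 := N.fix0
  gen := fun K hT hK => N.gen K hT fun g hg τ ha hd => hK g τ ⟨hg, hd, ha⟩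
  offD := by
    intro A hA a ha
    by_cases hne : A ≤ centralizer (zl T H : Set G)
    · refine ⟨1, ⟨c.syl.1 (hA.2.1 ha), fun d hd => (mem_centralizer_iff.1 (hne ha) d (hDV hd)).symm,
        fun v hv i x => ?_⟩, fun i x hx => absurd rfl hx⟩
      have h1 := mem_centralizer_iff.1 (hne ha) v hv
      have h2 : a * v * a⁻¹ = v := by rw [← h1]; group
      rw [h2, Equiv.Perm.one_apply, Pi.one_apply, Equiv.Perm.one_apply]
    · obtain ⟨h1, h2⟩ := N.off A hA.2.1 (FFOf.off_of_AA c hA hne)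
      obtain ⟨τ, hτ, hτ'⟩ := h2 a ha
      refine ⟨τ, ⟨c.syl.1 (hA.2.1 ha), h1 a ha, hτ⟩, fun i x hx => ?_⟩
      obtain ⟨h3, b, hb, hb'⟩ := hτ' i x hx
      exact ⟨h3, b, hb, c.syl.1 (hA.2.1 hb), h1 b hb, hb'⟩
  nJ := by
    obtain ⟨A, hA, hoff⟩ := hoff
    have h1 := hoff.ne
    by_contra hcon
    push Not at hcon
    exact h1 fun a ha => mem_centralizer_iff.2 fun v hv => (hcon A hA a ha v hv).symm
  noOver := fun A hA => hno A (hA.2.1.trans c.syl.1) hA.1
  cycle := by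
    obtain ⟨p, h1, -, h3, h4⟩ := SymCyc.exists_cyc m hm
    exact ⟨p, m, h1, h3, h4⟩
  prop := by
    intro X hTX hXH hle
    by_contra hcon
    obtain ⟨M₀, hM, huniq⟩ := c.uniq
    have h1 : X ≤ M₀ := huniq X hTX hXH fun h => hcon h.ge
    have h2 : (H ⊓ centralizer (zl T H : Set G)) ⊔ T ≤ M₀ :=
      huniq _ le_sup_right (sup_le inf_le_left c.syl.1) hcs
    exact hM (hle.trans (sup_le h1 (le_sup_left.trans h2)))

/-- **Even-subset modules, `m ≥ 2`: `T` does not centralise `Ω₁(Z(J(T)))`.** -/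
theorem no_sym (c : MinH H T) [Finite G]
    (hcs : (H ⊓ centralizer (zl T H : Set G)) ⊔ T ≠ H) (hoff : ∃ A ∈ AA T, Off (zl T H) A)
    (hno : NoOver (zl T H) H) (hk : 0 < k) (hm : 2 ≤ m)
    (N : SymK T H (zl T H) (cv T H) k m) (hz : ∀ z ∈ zj T, ∀ t ∈ T, t * z = z * t) : False := by
  have h := syT c hcs hoff hno N hk (by omega) FFOf.cv_le FFOf.cv_norm
  obtain ⟨ι, J, X, Y, t, r, hc⟩ := h.exists_ch
  obtain ⟨j, x, y, hT⟩ := h.exists_tr
  obtain ⟨i, -⟩ := hc.ex j x y hT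
  have hd := (hc.main h SymCyc.exists_pow).d_mem_Z i
  have htr := hc.tr i
  obtain ⟨h0x, h0y⟩ := SyT.Tr.ne h htr
  have hxy := htr.1
  -- a fourth point
  obtain ⟨z, hz0, hzx, hzy⟩ : ∃ z : Fin (2 ^ m + 1), z ≠ 0 ∧ z ≠ X i ∧ z ≠ Y i := by
    classical
    by_contra hcon
    push Not at hcon
    have h1 : (Finset.univ : Finset (Fin (2 ^ m + 1))) ⊆ {0, X i, Y i} := by
      intro w _
      by_cases hw0 : w = 0
      · simp [hw0]
      by_cases hwx : w = X i
      · simp [hwx]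
      · have := hcon w hw0 hwx
        simp [this]
    have h2 := Finset.card_le_card h1
    rw [Finset.card_univ, Fintype.card_fin] at h2
    have h3 : ({0, X i, Y i} : Finset (Fin (2 ^ m + 1))).card ≤ 3 := Finset.card_le_three
    have h4 : 2 ^ 2 ≤ 2 ^ m := Nat.pow_le_pow_right (by norm_num) hm
    omega
  obtain ⟨g, hg, π, hgd, hπ⟩ := h.cyc_T SymCyc.exists_pow (J i) h0x.symm hz0
  have h1 := h.u_conj (h.TH hg) hgd.act (J i) (X i) (Y i)
  rw [Equiv.Perm.one_apply, Pi.mulSingle_eq_same, hπ] at h1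
  have h2 := hz _ hd g hg
  have h3 : g * u H (zl T H) (cv T H) N.e (J i) (X i) (Y i) * g⁻¹ =
      u H (zl T H) (cv T H) N.e (J i) (X i) (Y i) := by rw [h2]; group
  rw [h3] at h1
  rcases (h.u_inj hxy h1).2 with ⟨h4, -⟩ | ⟨-, h4⟩
  · exact hzx h4.symm
  · exact hzy h4.symm

end Cfsg.Agent.Omega.NO3S.OneLine

end

section


/-!
# LEMMA UNIQ at every level: the even-subset modules (module form)

`sym_moved` : `V_H / D` a sum of even-subset modules of `S_{2^m+1}`, `m ≥ 2`, and some offender of `T` on `V_H`: there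
is `u ∈ V_H` which is centralised by all offenders `A ≤ T` and not by `T`.
-/

set_option autoImplicit false
set_option linter.unusedSectionVars false
set_option linter.unusedVariables false

namespace Cfsg.Agent.Omega.NO3S.OneLine

open Subgroup Cfsg Cfsg.Agent.PLocal.ThompsonJ Cfsg.Agent.ZN Cfsg.Agent.ZN.ChoiceBase
open Cfsg.Agent.ZN.ChoiceSit
open Cfsg.Agent.Omega.SQ1 Cfsg.Agent.Omega.SQ1.FFOne Cfsg.Agent.Omega.SQ1.VOf Cfsg.Agent.Omega.SQ1.FFSym
open Cfsg.Agent.Omega.FFThm (ActsSym SymK SymKM OffM)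
open Cfsg.Agent.Omega.FrameFF (cv)

universe v

variable {G : Type v} [Group G] {T H D : Subgroup G} {k m : ℕ}

/-- The module data. -/
theorem sy_of (c : MinH H T) [Finite G] (N : SymK T H (zl T H) D k m) (hk : 0 < k)
    (hm : 1 ≤ m) (hDV : D ≤ zl T H) (hDn : ∀ h ∈ H, ∀ v ∈ D, h * v * h⁻¹ ∈ D) :
    Sy H (zl T H) D N.e where
  n3 := by
    have : 2 ≤ 2 ^ m := by
      calc 2 = 2 ^ 1 := (pow_one 2).symm
        _ ≤ 2 ^ m := Nat.pow_le_pow_right (by norm_num) hm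
    omega
  n4 := by
    intro h4
    have h5 : 2 ∣ 2 ^ m := dvd_pow_self 2 (by omega)
    omega
  DV := hDV
  Vn := zl_norm
  Dn := hDn
  comm := MinH.comm c
  sq := MinH.sq c
  mul := N.mul
  even := N.even
  surj := N.surj
  ker := N.ker
  lift := N.lift
  perm := N.perm
  cent := fun g hg h1 h2 => cent c N hk hm hDV hDn hg h1 h2

/-- `T` is transitive on the points different from `0` of every component. -/
theorem cyc_T' [Finite G] (c : MinH H T) (N : SymK T H (zl T H) D k m) (h : Sy H (zl T H) D N.e) (hm : 1 ≤ m)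
    (j : Fin k) {x y : Fin (2 ^ m + 1)} (hx : x ≠ 0) (hy : y ≠ 0) :
    ∃ t ∈ T, ∃ π, Gd H (zl T H) D N.e (Pi.mulSingle j π) t ∧ π x = y := by
  obtain ⟨p, hpM, -, hp0, hpt⟩ := SymCyc.exists_cyc m hm
  obtain ⟨g, hg⟩ := h.exists_gd (Pi.mulSingle j p)
  obtain ⟨n, hc, M', hN⟩ := SymCyc.exists_pow g m
  have hpc : p ^ n = p := by
    have hd := orderOf_dvd_of_pow_eq_one hpM
    have e1 : n % orderOf p = 1 % orderOf p := by
      have e2 := congrArg (· % orderOf p) hc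
      simpa only [Nat.mod_mod_of_dvd _ hd] using e2
    have e2 := pow_mod_orderOf p n
    rw [e1] at e2
    rw [← e2, pow_mod_orderOf, pow_one]
  have h1 : Gd H (zl T H) D N.e (Pi.mulSingle j p) (g ^ n) := by
    have := h.gd_pow hg n
    rw [← Pi.mulSingle_pow, hpc] at this
    exact this
  obtain ⟨s, hs, hsT⟩ := syl_elt c.syl h1.mem ⟨M', hN⟩
  obtain ⟨σ, τ, hsa⟩ := h.perm s hs
  have h2 := h.gd_conj_single hs hsa h1
  have h3 := N.fix0 _ hsT _ _ h2.act (σ j)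
  rw [Pi.mulSingle_eq_same] at h3
  have h4 : (τ j)⁻¹ 0 = 0 := by
    apply hp0
    apply (τ j).injective
    rw [perm_inv_self]
    exact h3
  obtain ⟨t, ht, σ', τ', hta, hσ⟩ := N.trans (σ j) j
  have h5 := h.gd_conj_single (c.syl.1 ht) hta h2
  have h6 := N.fix0 _ ht _ _ hta (σ j)
  rw [hσ] at h5
  set ρ := τ' (σ j) * τ j with hρ
  have hρ0 : ρ⁻¹ 0 = 0 := by
    rw [Equiv.Perm.inv_eq_iff_eq, hρ, Equiv.Perm.mul_apply]
    have : τ j 0 = 0 := by
      conv_lhs => rw [← h4]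
      exact perm_inv_self _ _
    rw [this, h6]
  have h7 : τ' (σ j) * (τ j * p * (τ j)⁻¹) * (τ' (σ j))⁻¹ = ρ * p * ρ⁻¹ := by rw [hρ]; group
  rw [h7] at h5
  have hx' : ρ⁻¹ x ≠ 0 := fun e => hx (ρ⁻¹.injective (by rw [e, hρ0]))
  have hy' : ρ⁻¹ y ≠ 0 := fun e => hy (ρ⁻¹.injective (by rw [e, hρ0]))
  obtain ⟨i, hi⟩ := hpt _ _ hx' hy'
  refine ⟨(t * (s * g ^ n * s⁻¹) * t⁻¹) ^ i,
    pow_mem (mul_mem (mul_mem ht hsT) (inv_mem ht)) i, (ρ * p * ρ⁻¹) ^ i, ?_, ?_⟩
  · have := h.gd_pow h5 i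
    rwa [← Pi.mulSingle_pow] at this
  · rw [conj_pow, Equiv.Perm.mul_apply, Equiv.Perm.mul_apply, hi, perm_inv_self]

/-- The transpositions induced by `T` are disjoint. -/
theorem disj' {V : Subgroup G} {n : ℕ} {e : G → Fin k → Fin n → ZMod 2} (h : Sy H V D e) (hT : IsPGroup 2 T)
    {j : Fin k} {x y z : Fin n} (h3 : x ≠ y) (h5 : x ≠ z) {t s : G} (ht : t ∈ T) (hs : s ∈ T)
    (h4 : Gd H V D e (Pi.mulSingle j (Equiv.swap x y)) t)
    (h6 : Gd H V D e (Pi.mulSingle j (Equiv.swap x z)) s) : y = z := by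
  by_contra hyz
  have h7 := h.gd_mul h4 h6
  obtain ⟨N, hN⟩ := hT ⟨t * s, mul_mem ht hs⟩
  have hN' : (t * s) ^ 2 ^ N = 1 := by simpa using congrArg Subtype.val hN
  have h8 := h.gd_pow h7 (2 ^ N)
  rw [hN'] at h8
  have h9 := h.gd_unique h8 h.gd_one
  rw [← Pi.mulSingle_mul, ← Pi.mulSingle_pow] at h9
  have h10 : (Equiv.swap x y * Equiv.swap x z) ^ 2 ^ N = 1 := by
    have := congrFun h9 j
    rwa [Pi.mulSingle_eq_same] at this
  have h11 : Equiv.swap x y * Equiv.swap x z = cyc y x z := by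
    rw [cyc, Equiv.swap_comm x y]
  rw [h11] at h10
  have h12 : cyc y x z ^ 3 = 1 := by
    have := cyc_three h3.symm hyz h5
    rw [pow_succ, pow_two]
    exact this
  have h13 : cyc y x z = 1 := by
    have h14 := Nat.Coprime.pow_left N (show Nat.Coprime 2 3 by decide)
    have h15 := pow_gcd_eq_one.2 ⟨h10, h12⟩
    rwa [h14, pow_one] at h15
  have h16 := cyc_a h3.symm hyz h5
  rw [h13, Equiv.Perm.one_apply] at h16
  exact h3 h16.symm

/-- **Even-subset modules, `m ≥ 2`.** -/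
theorem sym_moved [Finite G] (c : MinH H T) (N : SymKM T H (zl T H) (cv T H) k m) (hk : 0 < k) (hm : 2 ≤ m)
    {A : Subgroup G} (hA : A ≤ T) (hoff : OffM (zl T H) A) :
    ∃ u ∈ zl T H, (∀ A' : Subgroup G, A' ≤ T → OffM (zl T H) A' → ∀ a ∈ A', a * u = u * a) ∧
      ∃ s ∈ T, s * u ≠ u * s := by
  have h := sy_of c N.toSymK hk (by omega) FFOf.cv_le FFOf.cv_norm
  have hTH := c.syl.1
  -- a transposition in `A`
  obtain ⟨i, x, y, hxy, t, ht, htg⟩ : ∃ i x y, x ≠ y ∧ ∃ t ∈ A,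
      Gd H (zl T H) (cv T H) N.e (Pi.mulSingle i (Equiv.swap x y)) t := by
    obtain ⟨hD, h2⟩ := N.offM A hA hoff
    by_contra hcon
    push Not at hcon
    apply hoff.ne
    intro a ha
    obtain ⟨τ, hτ, hτ'⟩ := h2 a ha
    have h1 : τ = 1 := by
      funext i
      ext x
      by_contra hx
      have hx' : τ i x ≠ x := fun e => hx (by rw [e]; rfl)
      obtain ⟨-, b, hb, hb'⟩ := hτ' i x hx'
      exact hcon i x (τ i x) hx'.symm b hb ⟨hTH (hA hb), hD b hb, hb'⟩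
    subst h1
    refine mem_centralizer_iff.2 fun v hv => ?_
    have h2 := h.gd_sim ⟨hTH (hA ha), hD a ha, hτ⟩ h.gd_one v hv
    symm
    calc a * v = (a * v * a⁻¹) * a := by group
      _ = v * a := by rw [h2]; group
  have hx0 : x ≠ 0 := by
    rintro rfl
    have h4 := N.fix0 t (hA ht) _ _ htg.act i
    rw [Pi.mulSingle_eq_same, Equiv.swap_apply_left] at h4
    exact hxy h4.symm
  refine ⟨u H (zl T H) (cv T H) N.e i x y, h.u_mem i x y, ?_, ?_⟩
  · intro A' hA' hoff' a ha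
    obtain ⟨hD, h2⟩ := N.offM A' hA' hoff'
    obtain ⟨τ, hτ, hτ'⟩ := h2 a ha
    have h1 := h.u_conj (hTH (hA' ha)) hτ i x y
    rw [Equiv.Perm.one_apply] at h1
    -- `τ` preserves `{x, y}`
    have hkey : ∀ x y : Fin (2 ^ m + 1), x ≠ y →
        (∃ t ∈ T, Gd H (zl T H) (cv T H) N.e (Pi.mulSingle i (Equiv.swap x y)) t) → τ i x = x ∨ τ i x = y := by
      rintro x y hxy ⟨t, ht, htg⟩
      by_cases hx : τ i x = x
      · exact Or.inl hx
      · right
        obtain ⟨-, b, hb, hb'⟩ := hτ' i x hx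
        exact (disj' h c.syl.2.1 hxy (Ne.symm hx) ht (hA' hb) htg ⟨hTH (hA' hb), hD b hb, hb'⟩).symm
    have h3 := hkey x y hxy ⟨t, hA ht, htg⟩
    have h4 := hkey y x hxy.symm ⟨t, hA ht, by rwa [Equiv.swap_comm]⟩
    have h5 : u H (zl T H) (cv T H) N.e i (τ i x) (τ i y) = u H (zl T H) (cv T H) N.e i x y := by
      rcases h3 with h3 | h3
      · rcases h4 with h4 | h4
        · rw [h3, h4]
        · exfalso
          exact hxy ((τ i).injective (h3.trans h4.symm))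
      · rcases h4 with h4 | h4
        · exfalso
          exact hxy ((τ i).injective (h3.trans h4.symm))
        · rw [h3, h4, h.u_symm]
    rw [h5] at h1
    calc a * u H (zl T H) (cv T H) N.e i x y =
        (a * u H (zl T H) (cv T H) N.e i x y * a⁻¹) * a := by group
      _ = _ := by rw [h1]
  · -- a fourth point
    obtain ⟨z, hz0, hzx, hzy⟩ : ∃ z : Fin (2 ^ m + 1), z ≠ 0 ∧ z ≠ x ∧ z ≠ y := by
      classical
      by_contra hcon
      push Not at hcon
      have h1 : (Finset.univ : Finset (Fin (2 ^ m + 1))) ⊆ {0, x, y} := by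
        intro w _
        by_cases hw0 : w = 0
        · simp [hw0]
        by_cases hwx : w = x
        · simp [hwx]
        · have := hcon w hw0 hwx
          simp [this]
      have h2 := Finset.card_le_card h1
      rw [Finset.card_univ, Fintype.card_fin] at h2
      have h3 : ({0, x, y} : Finset (Fin (2 ^ m + 1))).card ≤ 3 := Finset.card_le_three
      have h4 : 2 ^ 2 ≤ 2 ^ m := Nat.pow_le_pow_right (by norm_num) hm
      omega
    obtain ⟨g, hg, π, hgd, hπ⟩ := cyc_T' c N.toSymK h (by omega) i hx0 hz0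
    refine ⟨g, hg, fun hcon => ?_⟩
    have h1 := h.u_conj (hTH hg) hgd.act i x y
    rw [Equiv.Perm.one_apply, Pi.mulSingle_eq_same, hπ] at h1
    have h3 : g * u H (zl T H) (cv T H) N.e i x y * g⁻¹ = u H (zl T H) (cv T H) N.e i x y := by
      rw [hcon]; group
    rw [h3] at h1
    rcases (h.u_inj hxy h1).2 with ⟨h4, -⟩ | ⟨-, h4⟩
    · exact hzx h4.symm
    · exact hzy h4.symm

end Cfsg.Agent.Omega.NO3S.OneLine

end

end

-- merged: Cfsg.Agent.Mrg.Omega.NO3S.OneLine.Nat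
section

section


/-!
# LEMMA OL: natural modules give `Blk`

`n1_of` : `V_H / V₀` a natural `SL₂(F)`-module for the minimal parabolic `H`, the preimage of a line is contained
in `Z = Ω₁(Z(S))` and `S` induces the full root group: `Blk S H`, `|Z| = |V₀| q`, `|V_H| = |Z| q`, `C_Z(H) ≤ V₀`.
-/

set_option autoImplicit false
set_option linter.unusedSectionVars false
set_option linter.unusedVariables false

namespace Cfsg.Agent.Omega.NO3S.OneLine

open Subgroup Cfsg Cfsg.Agent.ZN Cfsg.Agent.ZN.ChoiceBase Cfsg.Agent.Omega.MinPar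
open Cfsg.Agent.ZN.ChoiceSit (Syl o2_le_syl)
open Cfsg.Agent.Omega.SQ1.Bau (mem_AA_of_comm zj_le_AA elem_comm elem_sq)
open Cfsg.Agent.PLocal.ElemAbSup Cfsg.Agent.PLocal.ThompsonJ
open Cfsg.Agent.MinSimple.VModule (zc_le zc_le_zl zl_le le_o2 le_normalizer_zl le_normalizer_o2)
open Cfsg.Agent.Omega.SQ1.FFOne Cfsg.Agent.Lib.SL2Mat
open Cfsg.Agent.Omega.NatPair (ap ap_zero' ap_one' ap_one ap_mul ext2 NatMod ap_inv_ap ap_ap_inv exists_ap_e ap_up_e)

universe u

/-- `|K| = |L| q` for a homomorphism of `K` onto `F` with kernel `L`. -/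
theorem card_of_map {G : Type*} [Group G] {F : Type*} [Field F] {K L : Subgroup G} (hLK : L ≤ K) (f : G → F)
    (hf : ∀ v ∈ K, ∀ w ∈ K, f (v * w) = f v + f w) (hs : ∀ c, ∃ v ∈ K, f v = c)
    (hk : ∀ v ∈ K, f v = 0 ↔ v ∈ L) : Nat.card K = Nat.card L * Nat.card F := by
  let φ : K →* Multiplicative F := MonoidHom.mk' (fun v => Multiplicative.ofAdd (f v)) (by
    rintro ⟨v, hv⟩ ⟨w, hw⟩
    exact congrArg Multiplicative.ofAdd (hf v hv w hw))
  have hφ : Function.Surjective φ := by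
    intro c
    obtain ⟨v, hv, h⟩ := hs (Multiplicative.toAdd c)
    exact ⟨⟨v, hv⟩, congrArg Multiplicative.ofAdd h⟩
  have h1 : Nat.card φ.ker * Nat.card φ.range = Nat.card K := by
    rw [← Subgroup.index_ker, Subgroup.card_mul_index]
  have h2 : Nat.card φ.range = Nat.card F := by
    rw [MonoidHom.range_eq_top.2 hφ, Subgroup.card_top]
    rfl
  have h3 : Nat.card φ.ker = Nat.card L := by
    refine Nat.card_congr ⟨fun v => ⟨v.1.1, (hk v.1.1 v.1.2).1 ?_⟩, fun z => ⟨⟨z.1, hLK z.2⟩, ?_⟩, fun _ => rfl,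
      fun _ => rfl⟩
    · exact congrArg Multiplicative.toAdd (MonoidHom.mem_ker.1 v.2)
    · exact MonoidHom.mem_ker.2 (congrArg Multiplicative.ofAdd ((hk z.1 (hLK z.2)).2 z.2))
  rw [← h1, h2, h3]

/-- The output of a natural module. -/
structure N1 {G : Type u} [Group G] (S H V0 : Subgroup G) (q : ℕ) : Prop where
  blk : Blk S H
  cz : Nat.card (zc S) = Nat.card V0 * q
  cv : Nat.card (zl S H) = Nat.card (zc S) * q
  cen : zc S ⊓ centralizer (H : Set G) ≤ V0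
  opp : V0 = ⊥ → ∃ x ∈ H, zc S ⊓ cj x (zc S) = ⊥

variable {G : Type u} [Group G] [Finite G] {S : Sylow 2 G} {H V0 : Subgroup G} {F : Type} [Field F] [Finite F]
  [CharP F 2]

theorem n1_of (hH : IsParS (S : Subgroup G) H) (hm : MinH H (S : Subgroup G))
    (M : NatSec F H (zl (S : Subgroup G) H) V0)
    (hZ : ∀ v ∈ zl (S : Subgroup G) H, M.π v 1 = 0 → v ∈ zc (S : Subgroup G))
    (hu : ∀ b : F, ∃ s ∈ (S : Subgroup G), M.Ind s (up b)) : N1 (S : Subgroup G) H V0 (Nat.card F) := by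
  have hSH : (S : Subgroup G) ≤ H := hm.syl.1
  have hZV : zc (S : Subgroup G) ≤ zl (S : Subgroup G) H := zc_le_zl _ _
  have hZ' : ∀ v ∈ zl (S : Subgroup G) H, v ∈ zc (S : Subgroup G) ↔ M.π v 1 = 0 := by
    intro v hv
    refine ⟨fun h1 => ?_, hZ v hv⟩
    obtain ⟨s, hs, hs1⟩ := hu 1
    have h2 := hs1 v hv
    have h3 : s * v * s⁻¹ = v := by rw [(mem_zc.1 h1).2.2 s hs]; group
    rw [h3] at h2
    have h4 := congrFun h2 0
    rw [ap_zero', up_00, up_01, one_mul, one_mul] at h4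
    exact left_eq_add.1 h4
  have hup : ∀ s ∈ (S : Subgroup G), ∃ b : F, M.Ind s (up b) := by
    intro s hs
    obtain ⟨n, hn⟩ := S.isPGroup' ⟨s, hs⟩
    have hn' : s ^ 2 ^ n = 1 := by
      have h0 := congrArg (fun t : S => (t : G)) hn
      simpa using h0
    refine M.up_of_line (hSH hs) hn' fun v hv h1 => ?_
    have h2 := hZ v hv h1
    have h3 : s * v * s⁻¹ = v := by rw [(mem_zc.1 h2).2.2 s hs]; group
    rw [h3]
  have hVQ : zl (S : Subgroup G) H ≤ o2 H := SQ1.VOf.MinH.zl_le_o2 hm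
  have hVe : ∀ v ∈ zl (S : Subgroup G) H, v * v = 1 := fun v hv => by
    rw [← pow_two]; exact SQ1.VOf.MinH.sq hm v hv
  have h0Q : ∀ s ∈ (S : Subgroup G), M.Ind s (up 0) → s ∈ o2 H := by
    intro s hs h1
    rw [up_zero] at h1
    exact M.inf_kern_le hm ⟨hs, (M.ind_one_iff (hSH hs)).1 h1⟩
  have hupinj : ∀ s ∈ (S : Subgroup G), ∀ b c : F, M.Ind s (up b) → M.Ind s (up c) → b = c := by
    intro s hs b c hb hc
    have h1 := M.ind_unique (hSH hs) hb hc
    have h2 : ent (up b) 0 1 = ent (up c) 0 1 := by rw [h1]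
    rwa [up_01, up_01] at h2
  have hQS : o2 H ≤ (S : Subgroup G) := o2_le_syl hm.syl
  classical
  let f : G → F := fun s => if h : s ∈ (S : Subgroup G) then (hup s h).choose else 0
  have hf : ∀ s ∈ (S : Subgroup G), M.Ind s (up (f s)) := by
    intro s hs
    have : f s = (hup s hs).choose := dif_pos hs
    rw [this]
    exact (hup s hs).choose_spec
  have hcS : Nat.card (S : Subgroup G) = Nat.card (o2 H) * Nat.card F := by
    refine card_of_map hQS f ?_ ?_ ?_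
    · intro v hv w hw
      refine hupinj _ (mul_mem hv hw) _ _ (hf _ (mul_mem hv hw)) ?_
      have := M.ind_mul (hSH hv) (hSH hw) (hf v hv) (hf w hw)
      rwa [up_mul] at this
    · intro c
      obtain ⟨s, hs, h1⟩ := hu c
      exact ⟨s, hs, hupinj s hs _ _ (hf s hs) h1⟩
    · intro s hs
      constructor
      · intro h1
        have := hf s hs
        rw [h1] at this
        exact h0Q s hs this
      · intro h1
        refine hupinj s hs _ _ (hf s hs) ?_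
        rw [up_zero]
        intro v hv
        have h2 : s * v * s⁻¹ = v := by rw [SQ1.VOf.MinH.o2_cent hm s h1 v hv]; group
        rw [h2, ap_one]
  have hpQ : 0 < Nat.card (o2 H) := Nat.card_pos
  have hrel : (o2 H).relIndex (S : Subgroup G) = Nat.card F := by
    have h1 := card_mul_relIndex hQS
    rw [hcS] at h1
    exact Nat.eq_of_mul_eq_mul_left hpQ h1
  have hcV : Nat.card (zl (S : Subgroup G) H) = Nat.card (zc (S : Subgroup G)) * Nat.card F := by
    refine card_of_map hZV (fun v => M.π v 1) (fun v hv w hw => by rw [M.map_mul v hv w hw]; rfl) ?_ ?_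
    · intro c
      obtain ⟨v, hv, h1⟩ := M.surj ![0, c]
      exact ⟨v, hv, by rw [h1]; rfl⟩
    · intro v hv
      exact (hZ' v hv).symm
  have hV0Z : V0 ≤ zc (S : Subgroup G) := fun v hv =>
    (hZ' v (M.V0V hv)).2 (by rw [(M.ker v (M.V0V hv)).2 hv]; rfl)
  have hcZ : Nat.card (zc (S : Subgroup G)) = Nat.card V0 * Nat.card F := by
    refine card_of_map hV0Z (fun v => M.π v 0)
      (fun v hv w hw => by rw [M.map_mul v (hZV hv) w (hZV hw)]; rfl) ?_ ?_
    · intro c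
      obtain ⟨v, hv, h1⟩ := M.surj ![c, 0]
      exact ⟨v, hZ v hv (by rw [h1]; rfl), by rw [h1]; rfl⟩
    · intro v hv
      rw [← M.ker v (hZV hv)]
      constructor
      · intro h1
        exact ext2 h1 ((hZ' v (hZV hv)).1 hv)
      · intro h1
        rw [h1]; rfl
  -- an element inducing `wm`
  obtain ⟨x, hx, hxw⟩ := M.lift (wm 1 one_ne_zero)
  refine ⟨⟨hH, ?_, ?_, ?_⟩, hcZ, hcV, ?_, ?_⟩
  · intro s hs hsQ v hv hc
    refine hZ v hv ?_
    have h1 := hf s hs v hv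
    have h2 : s * v * s⁻¹ = v := by rw [hc]; group
    rw [h2] at h1
    have h3 := congrFun h1 0
    rw [ap_zero', up_00, up_01, one_mul] at h3
    have h4 : f s * M.π v 1 = 0 := left_eq_add.1 h3
    rcases mul_eq_zero.1 h4 with h5 | h5
    · exfalso
      apply hsQ
      refine h0Q s hs ?_
      rw [← h5]
      exact hf s hs
    · exact h5
  · intro s hs v hv
    have h1 := M.Vn s (hSH hs) v hv
    refine hZ _ (mul_mem h1 (inv_mem hv)) ?_
    rw [M.map_div h1 hv, hf s hs v hv, Pi.sub_apply, ap_one', up_10, up_11, zero_mul, zero_add, one_mul, sub_self]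
  · rw [hcV, hrel]
  · rintro z ⟨hz, hzc⟩
    have h1 := hxw z (hZV hz)
    have h2 : x * z * x⁻¹ = z := by rw [mem_centralizer_iff.1 hzc x hx]; group
    rw [h2] at h1
    have h3 := congrFun h1 0
    rw [ap_zero', wm_00, wm_01, zero_mul, zero_add, one_mul, (hZ' z (hZV hz)).1 hz] at h3
    exact (M.ker z (hZV hz)).1 (ext2 h3 ((hZ' z (hZV hz)).1 hz))
  · intro h0
    refine ⟨x, hx, ?_⟩
    rw [eq_bot_iff, ← h0]
    rintro v ⟨hv, hv'⟩
    have hv1 : x⁻¹ * v * x ∈ zc (S : Subgroup G) := mem_cj.1 hv'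
    have h1 := hxw _ (hZV hv1)
    have e : x * (x⁻¹ * v * x) * x⁻¹ = v := by group
    rw [e] at h1
    have h3 := congrFun h1 0
    rw [ap_zero', wm_00, wm_01, zero_mul, zero_add, one_mul, (hZ' _ (hZV hv1)).1 hv1] at h3
    exact (M.ker v (hZV hv)).1 (ext2 h3 ((hZ' v (hZV hv)).1 hv))

end Cfsg.Agent.Omega.NO3S.OneLine

end

section


/-!
# The levels for FF-modules with several blocks, type-free part (helper781 #16560 (1), helper930 #16843)

`P ∈ P*(S)`, `V = V_P`, `C_Z(P) = 1`, no over-offender on `V`, `AA` a family of best offenders of `S` on `X`: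

* `Exa` : the hypotheses; `Exa.exact` : `|A| |C_V(A)| = |V| |A ∩ Q|` for `A ∈ AA`;
* `Exa.cut` : `C_X(A ∩ Q) = V C_X(A)`;
* `Exa.zcQ` : `Ω₁(Z(Q)) = V C_{Ω₁(Z(Q))}(A)`;
* `Exa.cent` : `C_X(AA) ≤ V` if `Ω₁(Z(Q)) = V`;
* `Exa.zc_eq_of` : `Ω₁(Z(Q)) = V`, from the data of the blocks.
-/

set_option autoImplicit false
set_option linter.unusedSectionVars false
set_option linter.unusedVariables false

namespace Cfsg.Agent.Omega.NO3S.OneLine

open Subgroup Cfsg Cfsg.Agent.ZN Cfsg.Agent.ZN.ChoiceBase Cfsg.Agent.Omega.MinPar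
open Cfsg.Agent.Omega.SQ1.Bau (mem_AA_of_comm zj_le_AA elem_comm elem_sq mem_sup_comm card_sup_comm mem_sup_norm)
open Cfsg.Agent.PLocal.ElemAbSup Cfsg.Agent.PLocal.ThompsonJ
open Cfsg.Agent.MinSimple.VModule (zc_le zc_le_zl zl_le le_o2 le_normalizer_zl le_normalizer_o2)
open Cfsg.Agent.Omega.FFThm (ElemM NoOverM OffM)

universe u

variable {G : Type u} [Group G] [Finite G] {S : Sylow 2 G} {P X L : Subgroup G} {AA : Set (Subgroup G)}

/-- `P ∈ P*(S)`, no over-offender on `V_P`, a family `AA` of best offenders on `X ≥ Ω₁(Z(O₂(P)))`. -/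
structure Exa (S : Sylow 2 G) (P X L : Subgroup G) (AA : Set (Subgroup G)) : Prop where
  char2 : IsCharacteristicTwoType G
  star : IsParS (S : Subgroup G) P
  fam : BFam (S : Subgroup G) X L AA
  elem : IsElementaryAbelian 2 X
  le : X ≤ (S : Subgroup G)
  norm : P ≤ normalizer (X : Set G)
  PL : P ≤ L
  QX : zc (o2 P) ≤ X
  noOver : NoOverM (zl (S : Subgroup G) P) P
  cen : zc (S : Subgroup G) ⊓ centralizer (P : Set G) = ⊥
  ex : ∃ A ∈ AA, ¬ A ≤ o2 P

namespace Exa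

variable (h : Exa S P X L AA)
include h

theorem Xc : ∀ x ∈ X, ∀ y ∈ X, x * y = y * x := elem_comm h.elem

theorem QS : o2 P ≤ (S : Subgroup G) := o2_le S h.star.toIsPar

theorem SP : (S : Subgroup G) ≤ P := h.star.le

theorem PV : P ≤ normalizer (zl (S : Subgroup G) P : Set G) := le_normalizer_zl _ _

theorem VQ : zl (S : Subgroup G) P ≤ zc (o2 P) := h.star.isLoc.zl_le S h.char2

theorem VX : zl (S : Subgroup G) P ≤ X := h.VQ.trans h.QX

theorem ZX : zc (S : Subgroup G) ≤ X := (zc_le_zl _ _).trans h.VX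

theorem comm_Q : ∀ a ∈ o2 P, ∀ v ∈ zl (S : Subgroup G) P, a * v = v * a := fun a ha v hv =>
  (mem_zc.1 (h.VQ hv)).2.2 a ha

theorem inf_cent {A : Subgroup G} (hA : A ≤ (S : Subgroup G)) :
    A ⊓ centralizer (zl (S : Subgroup G) P : Set G) = A ⊓ o2 P := by
  rw [← IsParS.inf_centralizer S h.char2 h.star, ← inf_assoc, inf_eq_left.2 hA]

/-- exactness -/
theorem exact {A : Subgroup G} (hA : A ∈ AA) :
    Nat.card A * Nat.card ↥(zl (S : Subgroup G) P ⊓ centralizer (A : Set G)) =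
      Nat.card (zl (S : Subgroup G) P) * Nat.card ↥(A ⊓ o2 P) := by
  have hAS := h.fam.le A hA
  have h1 := h.fam.off h.Xc h.VX hA
  have h2 := h.noOver A (hAS.trans h.SP) (elemM_mono (h.fam.elem A hA) h.VX le_rfl)
  rw [h.inf_cent hAS] at h1 h2
  exact le_antisymm h2 h1

/-- `|A ∩ Q| |C_X(A ∩ Q)| = |A| |C_X(A)|` and `C_X(A ∩ Q) = V C_X(A)`. -/
theorem cut {A : Subgroup G} (hA : A ∈ AA) :
    Nat.card ↥(A ⊓ o2 P) * Nat.card ↥(X ⊓ centralizer ((A ⊓ o2 P : Subgroup G) : Set G)) =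
        Nat.card A * Nat.card ↥(X ⊓ centralizer (A : Set G)) ∧
      zl (S : Subgroup G) P ⊔ (X ⊓ centralizer (A : Set G)) =
        X ⊓ centralizer ((A ⊓ o2 P : Subgroup G) : Set G) := by
  have hAS := h.fam.le A hA
  have hc := h.exact hA
  have hle : zl (S : Subgroup G) P ⊔ (X ⊓ centralizer (A : Set G)) ≤
      X ⊓ centralizer ((A ⊓ o2 P : Subgroup G) : Set G) := by
    refine sup_le (le_inf h.VX fun v hv => mem_centralizer_iff.2 fun a ha => h.comm_Q a ha.2 v hv) ?_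
    exact inf_le_inf_left _ (centralizer_le inf_le_left)
  have h1 := card_sup_comm (A := zl (S : Subgroup G) P) (B := X ⊓ centralizer (A : Set G))
    fun v hv x hx => h.Xc v (h.VX hv) x hx.1
  have h2 : zl (S : Subgroup G) P ⊓ (X ⊓ centralizer (A : Set G)) =
      zl (S : Subgroup G) P ⊓ centralizer (A : Set G) := by
    rw [← inf_assoc, inf_eq_left.2 h.VX]
  rw [h2] at h1
  have hp : 0 < Nat.card ↥(zl (S : Subgroup G) P ⊓ centralizer (A : Set G)) := Nat.card_pos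
  have h4 : Nat.card ↥(A ⊓ o2 P) * Nat.card ↥(X ⊓ centralizer ((A ⊓ o2 P : Subgroup G) : Set G)) ≤
      Nat.card A * Nat.card ↥(X ⊓ centralizer (A : Set G)) := by
    refine h.fam.best A hA _ ?_ inf_le_left
    rw [← h.inf_cent hAS]
    exact inf_le_inf_left _ (centralizer_le h.VX)
  have h5 := Nat.mul_le_mul_left (Nat.card ↥(A ⊓ o2 P)) (Subgroup.card_le_of_le hle)
  have h6 : Nat.card ↥(A ⊓ o2 P) * Nat.card ↥(zl (S : Subgroup G) P ⊔ (X ⊓ centralizer (A : Set G))) =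
      Nat.card A * Nat.card ↥(X ⊓ centralizer (A : Set G)) := by
    refine Nat.eq_of_mul_eq_mul_right hp ?_
    calc _ = Nat.card ↥(A ⊓ o2 P) * (Nat.card ↥(zl (S : Subgroup G) P ⊔ (X ⊓ centralizer (A : Set G))) *
          Nat.card ↥(zl (S : Subgroup G) P ⊓ centralizer (A : Set G))) := by ring
      _ = (Nat.card (zl (S : Subgroup G) P) * Nat.card ↥(A ⊓ o2 P)) *
          Nat.card ↥(X ⊓ centralizer (A : Set G)) := by rw [h1]; ring
      _ = _ := by rw [← hc]; ring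
  have h7 := le_antisymm h4 (h6 ▸ h5)
  refine ⟨h7, Subgroup.eq_of_le_of_card_ge hle ?_⟩
  have hp' : 0 < Nat.card ↥(A ⊓ o2 P) := Nat.card_pos
  exact Nat.le_of_mul_le_mul_left (h7.trans h6.symm).le hp'

/-- a member `B ≤ Q` of the family with `B C(X) = (A ∩ Q) C(X)` -/
theorem exists_cut {A : Subgroup G} (hA : A ∈ AA) :
    ∃ B ∈ AA, B ≤ o2 P ∧ B ⊔ centralizer (X : Set G) = (A ⊓ o2 P) ⊔ centralizer (X : Set G) := by
  obtain ⟨h1, -⟩ := h.cut hA
  have hAS := h.fam.le A hA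
  obtain ⟨B', hB', h3⟩ := h.fam.cut A hA (A ⊓ o2 P) (by
    rw [← h.inf_cent hAS]
    exact inf_le_inf_left _ (centralizer_le h.VX)) inf_le_left h1
  refine ⟨B', hB', ?_, h3⟩
  intro b hb
  have h4 : b ∈ (A ⊓ o2 P) ⊔ centralizer (X : Set G) := h3 ▸ mem_sup_left hb
  have h5 : A ⊓ o2 P ≤ normalizer (centralizer (X : Set G) : Set G) := by
    intro a ha
    apply mem_normalizer_of_cj_le
    rw [cj_centralizer, cj_eq_of_mem_normalizer (h.norm (h.SP (hAS ha.1)))]
  obtain ⟨a, ha, c, hc, rfl⟩ := mem_sup_norm h5 h4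
  refine mul_mem ha.2 ?_
  have h6 : c ∈ (S : Subgroup G) := by
    have := mul_mem (inv_mem (hAS ha.1)) (h.fam.le B' hB' hb)
    rwa [inv_mul_cancel_left] at this
  rw [← IsParS.inf_centralizer S h.char2 h.star]
  exact ⟨h6, centralizer_le h.VX hc⟩

/-- `Y = C_X({B ∈ AA, B ≤ Q})` is contained in `V C_X(A)`. -/
theorem Y_le {A : Subgroup G} (hA : A ∈ AA) {x : G} (hx : x ∈ X)
    (hxB : ∀ B ∈ AA, B ≤ o2 P → ∀ b ∈ B, b * x = x * b) :
    x ∈ zl (S : Subgroup G) P ⊔ (X ⊓ centralizer (A : Set G)) := by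
  obtain ⟨B', hB', hB'Q, h3⟩ := h.exists_cut hA
  rw [(h.cut hA).2]
  refine ⟨hx, mem_centralizer_iff.2 fun a ha => ?_⟩
  have h4 : a ∈ B' ⊔ centralizer (X : Set G) := by rw [h3]; exact mem_sup_left ha
  have h5 : B' ⊔ centralizer (X : Set G) ≤ centralizer {x} := by
    refine sup_le (fun b hb => ?_) (fun c hc => ?_)
    · rw [mem_centralizer_singleton_iff]
      exact hxB B' hB' hB'Q b hb
    · rw [mem_centralizer_singleton_iff]
      exact (mem_centralizer_iff.1 hc x hx).symm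
  exact mem_centralizer_singleton_iff.1 (h5 h4)

/-- `[x, a] ∈ V` for `a ∈ A`, `x ∈ V C_X(A)` -/
theorem comm_mem {A : Subgroup G} (hA : A ∈ AA) {x : G}
    (hx : x ∈ zl (S : Subgroup G) P ⊔ (X ⊓ centralizer (A : Set G))) {a : G} (ha : a ∈ A) :
    a * x * a⁻¹ * x⁻¹ ∈ zl (S : Subgroup G) P := by
  have haS := h.fam.le A hA ha
  obtain ⟨v, hv, w, hw, rfl⟩ := mem_sup_comm (A := zl (S : Subgroup G) P) (B := X ⊓ centralizer (A : Set G))
    (fun v hv a ha => h.Xc v (h.VX hv) a ha.1) hx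
  have e1 : a * w = w * a := mem_centralizer_iff.1 hw.2 a ha
  have e2 : a * (v * w) * a⁻¹ * (v * w)⁻¹ = a * v * a⁻¹ * v⁻¹ := by
    have e3 : a * (v * w) * a⁻¹ * (v * w)⁻¹ = a * v * (w * a⁻¹ * w⁻¹) * v⁻¹ := by group
    have e4 : w * a⁻¹ * w⁻¹ = a⁻¹ := by
      have : w * a⁻¹ = a⁻¹ * w := by
        calc w * a⁻¹ = a⁻¹ * (a * w) * a⁻¹ := by group
          _ = a⁻¹ * w := by rw [e1]; group
      rw [this]; group
    rw [e3, e4]
  rw [e2]
  exact mul_mem (conj_mem h.PV (h.SP haS) hv) (inv_mem hv)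

/-- `{g ∈ P | [Y, g] ≤ V}` -/
def NN (h : Exa S P X L AA) (Y : Subgroup G) : Subgroup G where
  carrier := {g | g ∈ P ∧ ∀ u ∈ Y, g * u * g⁻¹ * u⁻¹ ∈ zl (S : Subgroup G) P}
  mul_mem' := by
    rintro a b ⟨ha, ha'⟩ ⟨hb, hb'⟩
    refine ⟨mul_mem ha hb, fun y hy => ?_⟩
    have e : a * b * y * (a * b)⁻¹ * y⁻¹ =
      (a * (b * y * b⁻¹ * y⁻¹) * a⁻¹) * (a * y * a⁻¹ * y⁻¹) := by group
    rw [e]
    exact mul_mem (conj_mem h.PV ha (hb' y hy)) (ha' y hy)
  one_mem' := ⟨one_mem _, fun y _ => by simp⟩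
  inv_mem' := by
    rintro a ⟨ha, ha'⟩
    refine ⟨inv_mem ha, fun y hy => ?_⟩
    have e : a⁻¹ * y * a⁻¹⁻¹ * y⁻¹ = a⁻¹ * (a * y * a⁻¹ * y⁻¹)⁻¹ * a⁻¹⁻¹ := by group
    rw [e]
    exact conj_mem h.PV (inv_mem ha) (inv_mem (ha' y hy))

theorem NN_norm {Y : Subgroup G} (hY : P ≤ normalizer (Y : Set G)) :
    P ≤ normalizer ((h.NN Y : Subgroup G) : Set G) := by
  intro p hp
  apply mem_normalizer_of_cj_le
  intro x hx
  rw [mem_cj] at hx
  obtain ⟨hx1, hx2⟩ := hx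
  refine ⟨?_, fun u hu => ?_⟩
  · have := mul_mem (mul_mem hp hx1) (inv_mem hp)
    have e : p * (p⁻¹ * x * p) * p⁻¹ = x := by group
    rwa [e] at this
  · have h1 : p⁻¹ * u * p ∈ Y := by
      have := conj_mem hY (inv_mem hp) hu
      rwa [inv_inv] at this
    have h2 := conj_mem h.PV hp (hx2 _ h1)
    have e : p * (p⁻¹ * x * p * (p⁻¹ * u * p) * (p⁻¹ * x * p)⁻¹ * (p⁻¹ * u * p)⁻¹) * p⁻¹ =
        x * u * x⁻¹ * u⁻¹ := by group
    rwa [e] at h2

/-- A normal subgroup of `P` which contains a member `A ≰ Q` of the family covers `P / S`. -/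
theorem sup_S {N : Subgroup G} (hN : N ≤ P) (hPN : P ≤ normalizer (N : Set G))
    (hA : ∃ A ∈ AA, ¬ A ≤ o2 P ∧ A ≤ N) : N ⊔ (S : Subgroup G) = P := by
  obtain ⟨A, hA, hAQ, hAN⟩ := hA
  rcases h.star.toIsPar.sup_eq_or_inf_le S hN hPN with h1 | h1
  · exact h1
  · exact absurd ((le_inf (h.fam.le A hA) hAN).trans h1) hAQ

/-- `[E, S] = 1` for some `1 ≠ E ≤ V` normalised by `P` and centralised by the family: impossible. -/
theorem eq_bot {E : Subgroup G} (hEV : E ≤ X) (hPE : P ≤ normalizer (E : Set G))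
    (hEA : ∀ e ∈ E, ∀ A ∈ AA, ∀ a ∈ A, a * e = e * a) : E = ⊥ := by
  by_contra hne
  have hne' : ¬ E ≤ ⊥ := fun h1 => hne (le_bot_iff.1 h1)
  obtain ⟨y, hy, hy1, hyS⟩ := exists_fixed (M := ⊥) S.isPGroup' (hEV.trans h.le) (h.SP.trans hPE) hne'
  have hyZ : y ∈ zc (S : Subgroup G) := by
    refine mem_zc.2 ⟨h.le (hEV hy), elem_sq h.elem y (hEV hy), fun s hs => ?_⟩
    have h1 := mul_inv_eq_one.1 (mem_bot.1 (hyS s hs))
    calc s * y = s * y * s⁻¹ * s := by group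
      _ = y * s := by rw [h1]
  have h2 : P ≤ normalizer ((P ⊓ centralizer (E : Set G) : Subgroup G) : Set G) := by
    intro p hp
    apply mem_normalizer_of_cj_le
    rw [cj_inf, cj_centralizer, cj_eq_of_mem_normalizer (le_normalizer hp), cj_eq_of_mem_normalizer (hPE hp)]
  obtain ⟨A, hA, hAQ⟩ := h.ex
  have h3 := h.sup_S inf_le_left h2 ⟨A, hA, hAQ, le_inf ((h.fam.le A hA).trans h.SP) fun a ha =>
    mem_centralizer_iff.2 fun e he => (hEA e he A hA a ha).symm⟩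
  have h4 : y ∈ zc (S : Subgroup G) ⊓ centralizer (P : Set G) := by
    refine ⟨hyZ, mem_centralizer_iff.2 fun p hp => ?_⟩
    have h5 : P ≤ centralizer {y} := by
      rw [← h3]
      refine sup_le (fun c hc => ?_) (fun s hs => ?_)
      · rw [mem_centralizer_singleton_iff]
        exact (mem_centralizer_iff.1 hc.2 y hy).symm
      · rw [mem_centralizer_singleton_iff]
        exact (mem_zc.1 hyZ).2.2 s hs
    exact mem_centralizer_singleton_iff.1 (h5 hp)
  rw [h.cen] at h4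
  exact hy1 h4

/-- **`C_X(AA) ≤ V`** if `Ω₁(Z(O₂(P))) = V`. -/
theorem cent (hT : zc (o2 P) = zl (S : Subgroup G) P) :
    X ⊓ centralizer ((sSup AA : Subgroup G) : Set G) ≤ zl (S : Subgroup G) P := by
  by_contra hne
  -- `S` normalises `C_X(AA)`
  have hSn : (S : Subgroup G) ≤
      normalizer ((X ⊓ centralizer ((sSup AA : Subgroup G) : Set G) : Subgroup G) : Set G) := by
    intro s hs
    apply mem_normalizer_of_cj_le
    rw [cj_inf, cj_eq_of_mem_normalizer (h.norm (h.SP hs))]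
    refine inf_le_inf_left _ ?_
    intro y hy
    rw [mem_cj, mem_cent_sSup] at hy
    rw [mem_cent_sSup]
    intro B hB' b hb
    have h1 : cj s⁻¹ B ≤ (S : Subgroup G) := by
      have h2 := cj_mono s⁻¹ (h.fam.le B hB')
      rwa [cj_eq_of_mem_normalizer (le_normalizer (inv_mem hs) : s⁻¹ ∈ normalizer ((S : Subgroup G) : Set G))] at h2
    have h2 := h.fam.conj B hB' s⁻¹ (h.PL (h.SP (inv_mem hs))) h1
    have h3 := hy _ h2 (s⁻¹ * b * s) (by rw [mem_cj]; have e : s⁻¹⁻¹ * (s⁻¹ * b * s) * s⁻¹ = b := by group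
                                         rwa [e])
    calc b * y = s * ((s⁻¹ * b * s) * (s⁻¹ * y * s)) * s⁻¹ := by group
      _ = s * ((s⁻¹ * y * s) * (s⁻¹ * b * s)) * s⁻¹ := by rw [h3]
      _ = y * b := by group
  obtain ⟨y, ⟨hyX, hyA⟩, hyV, hyS⟩ := exists_fixed (M := zl (S : Subgroup G) P) S.isPGroup'
    (inf_le_left.trans h.le) hSn hne
  replace hyA := mem_cent_sSup.1 hyA
  -- `Y`, normalised by `P`
  let Y : Subgroup G := X ⊓ centralizer ((sSup {B | B ∈ AA ∧ B ≤ o2 P} : Subgroup G) : Set G)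
  have hPY : P ≤ normalizer (Y : Set G) := by
    intro p hp
    apply mem_normalizer_of_cj_le
    rw [cj_inf, cj_eq_of_mem_normalizer (h.norm hp)]
    refine inf_le_inf_left _ ?_
    intro x hx
    rw [mem_cj, mem_cent_sSup] at hx
    rw [mem_cent_sSup]
    rintro B ⟨hB', hBQ⟩ b hb
    have h0 : cj p⁻¹ B ≤ o2 P := by
      have h2 := cj_mono p⁻¹ hBQ
      rwa [cj_eq_of_mem_normalizer (le_normalizer_o2 P (inv_mem hp))] at h2
    have h2 := h.fam.conj B hB' p⁻¹ (h.PL (inv_mem hp)) (h0.trans h.QS)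
    have h3 := hx _ ⟨h2, h0⟩ (p⁻¹ * b * p) (by rw [mem_cj]; have e : p⁻¹⁻¹ * (p⁻¹ * b * p) * p⁻¹ = b := by group
                                               rwa [e])
    calc b * x = p * ((p⁻¹ * b * p) * (p⁻¹ * x * p)) * p⁻¹ := by group
      _ = p * ((p⁻¹ * x * p) * (p⁻¹ * b * p)) * p⁻¹ := by rw [h3]
      _ = x * b := by group
  have hyY : y ∈ Y := ⟨hyX, mem_cent_sSup.2 fun B hB' => hyA B hB'.1⟩
  obtain ⟨A, hA, hAQ⟩ := h.ex
  have hNS := h.sup_S (N := h.NN Y) (fun g hg => hg.1) (h.NN_norm hPY) ⟨A, hA, hAQ, fun a ha =>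
    ⟨h.SP (h.fam.le A hA ha), fun u hu => h.comm_mem hA
      (h.Y_le hA hu.1 fun B hB' hBQ b hb => mem_cent_sSup.1 hu.2 B ⟨hB', hBQ⟩ b hb) ha⟩⟩
  -- `P` normalises `V y`
  have hPM : ∀ p ∈ P, p * y * p⁻¹ * y⁻¹ ∈ zl (S : Subgroup G) P := by
    let M : Subgroup G :=
      { carrier := {g | g ∈ P ∧ g * y * g⁻¹ * y⁻¹ ∈ zl (S : Subgroup G) P}
        mul_mem' := by
          rintro a b ⟨ha, ha'⟩ ⟨hb, hb'⟩
          refine ⟨mul_mem ha hb, ?_⟩
          have e : a * b * y * (a * b)⁻¹ * y⁻¹ =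
            (a * (b * y * b⁻¹ * y⁻¹) * a⁻¹) * (a * y * a⁻¹ * y⁻¹) := by group
          rw [e]
          exact mul_mem (conj_mem h.PV ha hb') ha'
        one_mem' := ⟨one_mem _, by simp⟩
        inv_mem' := by
          rintro a ⟨ha, ha'⟩
          refine ⟨inv_mem ha, ?_⟩
          have e : a⁻¹ * y * a⁻¹⁻¹ * y⁻¹ = a⁻¹ * (a * y * a⁻¹ * y⁻¹)⁻¹ * a⁻¹⁻¹ := by group
          rw [e]
          exact conj_mem h.PV (inv_mem ha) (inv_mem ha') }
    have hle : P ≤ M := by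
      rw [← hNS]
      exact sup_le (fun g hg => ⟨hg.1, hg.2 y hyY⟩) fun s hs => ⟨h.SP hs, hyS s hs⟩
    exact fun p hp => (hle hp).2
  -- `E = [y, Q]`
  have hyS' : y ∈ (S : Subgroup G) := h.le hyX
  let E : Subgroup G := closure {x | ∃ t ∈ o2 P, x = t * y * t⁻¹ * y⁻¹}
  have hEV : ∀ t ∈ o2 P, t * y * t⁻¹ * y⁻¹ ∈ zl (S : Subgroup G) P := fun t ht => hyS t (h.QS ht)
  have hEX : E ≤ X := by
    rw [closure_le]
    rintro x ⟨t, ht, rfl⟩
    exact h.VX (hEV t ht)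
  have hEA : ∀ e ∈ E, ∀ A ∈ AA, ∀ a ∈ A, a * e = e * a := by
    intro e he A hA a ha
    have h1 : E ≤ centralizer ((sSup AA : Subgroup G) : Set G) := by
      rw [closure_le]
      rintro x ⟨t, ht, rfl⟩
      have h2 : y ∈ X ⊓ centralizer ((sSup AA : Subgroup G) : Set G) := ⟨hyX, mem_cent_sSup.2 hyA⟩
      have h3 := (mem_normalizer_iff.1 (hSn (h.QS ht)) y).1 h2
      exact (mul_mem h3 (inv_mem h2)).2
    exact mem_cent_sSup.1 (h1 he) A hA a ha
  have hPE : P ≤ normalizer (E : Set G) := by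
    intro p hp
    apply mem_normalizer_of_cj_le
    rw [cj, MonoidHom.map_closure, closure_le]
    rintro _ ⟨x, ⟨t, ht, rfl⟩, rfl⟩
    have ht' := conj_mem (le_normalizer_o2 P) hp ht
    refine subset_closure ⟨p * t * p⁻¹, ht', ?_⟩
    set t' := p * t * p⁻¹ with ht'd
    have h1 := hPM p hp
    set v := p * y * p⁻¹ * y⁻¹ with hv
    have h2 : t' * v = v * t' := h.comm_Q t' ht' v h1
    have h3 : t' * y * t'⁻¹ * y⁻¹ ∈ zl (S : Subgroup G) P := hEV t' ht'
    have h4 : v * (t' * y * t'⁻¹ * y⁻¹) = t' * y * t'⁻¹ * y⁻¹ * v := h.Xc v (h.VX h1) _ (h.VX h3)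
    simp only [MulEquiv.toMonoidHom_eq_coe, MonoidHom.coe_coe, MulAut.conj_apply]
    have e1 : p * (t * y * t⁻¹ * y⁻¹) * p⁻¹ = t' * (v * y) * t'⁻¹ * (v * y)⁻¹ := by
      rw [ht'd, hv]; group
    rw [e1]
    have e2 : t' * (v * y) * t'⁻¹ * (v * y)⁻¹ = (t' * v) * y * t'⁻¹ * y⁻¹ * v⁻¹ := by group
    rw [e2, h2]
    calc v * t' * y * t'⁻¹ * y⁻¹ * v⁻¹ = v * (t' * y * t'⁻¹ * y⁻¹) * v⁻¹ := by group
      _ = t' * y * t'⁻¹ * y⁻¹ := by rw [h4]; group
  have hE := h.eq_bot hEX hPE hEA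
  have hE1 : ∀ t ∈ o2 P, t * y = y * t := by
    intro t ht
    have h1 : t * y * t⁻¹ * y⁻¹ ∈ E := subset_closure ⟨t, ht, rfl⟩
    rw [hE, mem_bot] at h1
    have h3 := mul_inv_eq_one.1 h1
    calc t * y = t * y * t⁻¹ * t := by group
      _ = y * t := by rw [h3]
  have hyQ : y ∈ o2 P := h.star.isLoc.char2 S h.char2 ⟨h.SP hyS', mem_centralizer_iff.2 hE1⟩
  apply hyV
  rw [← hT]
  exact mem_zc.2 ⟨hyQ, elem_sq h.elem y hyX, hE1⟩

/-- **`C_X(AA) = C_V(AA)`.** -/
theorem cent_eq (hT : zc (o2 P) = zl (S : Subgroup G) P) :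
    X ⊓ centralizer ((sSup AA : Subgroup G) : Set G) =
      zl (S : Subgroup G) P ⊓ centralizer ((sSup AA : Subgroup G) : Set G) :=
  le_antisymm (le_inf (h.cent hT) inf_le_right) (inf_le_inf_right _ h.VX)

/-- `Ω₁(Z(Q)) = V C(A)` -/
theorem zcQ {A : Subgroup G} (hA : A ∈ AA) {y : G} (hy : y ∈ zc (o2 P)) :
    ∃ v ∈ zl (S : Subgroup G) P, ∀ a ∈ A, a * (y * v) = y * v * a := by
  have h1 := h.Y_le hA (h.QX hy) fun B _ hBQ b hb => (mem_zc.1 hy).2.2 b (hBQ hb)
  obtain ⟨v, hv, w, hw, rfl⟩ := mem_sup_comm (A := zl (S : Subgroup G) P) (B := X ⊓ centralizer (A : Set G))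
    (fun v hv a ha => h.Xc v (h.VX hv) a ha.1) h1
  refine ⟨v⁻¹, inv_mem hv, fun a ha => ?_⟩
  have e : v * w * v⁻¹ = w := by rw [h.Xc v (h.VX hv) w hw.1]; group
  rw [e]
  exact mem_centralizer_iff.1 hw.2 a ha

/-- `{g ∈ P | [Ω₁(Z(Q)), g] ≤ V}` -/
def N0 (h : Exa S P X L AA) : Subgroup G := h.NN (zc (o2 P))

theorem zcQ_norm : P ≤ normalizer ((zc (o2 P) : Subgroup G) : Set G) := by
  intro p hp
  apply mem_normalizer_of_cj_le
  have h1 : cj p (o2 P) = o2 P := cj_eq_of_mem_normalizer (le_normalizer_o2 P hp)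
  intro x hx
  rw [mem_cj] at hx
  obtain ⟨h2, h3, h4⟩ := mem_zc.1 hx
  refine mem_zc.2 ⟨?_, ?_, fun t ht => ?_⟩
  · have := conj_mem (le_normalizer_o2 P) hp h2
    have e : p * (p⁻¹ * x * p) * p⁻¹ = x := by group
    rwa [e] at this
  · have e : (p⁻¹ * x * p) ^ 2 = p⁻¹ * x ^ 2 * p := by rw [pow_two, pow_two]; group
    rw [e] at h3
    have e2 : x ^ 2 = p * (p⁻¹ * x ^ 2 * p) * p⁻¹ := by group
    rw [e2, h3]; group
  · have ht' : p⁻¹ * t * p ∈ o2 P := by
      have := conj_mem (le_normalizer_o2 P) (inv_mem hp) ht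
      rwa [inv_inv] at this
    have h5 := h4 _ ht'
    calc t * x = p * ((p⁻¹ * t * p) * (p⁻¹ * x * p)) * p⁻¹ := by group
      _ = p * ((p⁻¹ * x * p) * (p⁻¹ * t * p)) * p⁻¹ := by rw [h5]
      _ = x * t := by group

theorem le_N0 {A : Subgroup G} (hA : A ∈ AA) : A ≤ h.N0 := fun a ha =>
  ⟨h.SP (h.fam.le A hA ha), fun u hu => h.comm_mem hA
    (h.Y_le hA (h.QX hu) fun B _ hBQ b hb => (mem_zc.1 hu).2.2 b (hBQ hb)) ha⟩

theorem N0_norm : P ≤ normalizer ((h.N0 : Subgroup G) : Set G) := h.NN_norm h.zcQ_norm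

/-- Elements of `N₀` which centralise `V` centralise `Ω₁(Z(Q))`. -/
theorem cent_zcQ {g : G} (hg : g ∈ h.N0) (hgV : ∀ v ∈ zl (S : Subgroup G) P, g * v = v * g) :
    ∀ y ∈ zc (o2 P), g * y = y * g := by
  -- 2-elements
  have h2 : ∀ x ∈ h.N0, (∀ v ∈ zl (S : Subgroup G) P, x * v = v * x) → (∃ n : ℕ, x ^ 2 ^ n = 1) →
      ∀ y ∈ zc (o2 P), x * y = y * x := by
    rintro x hx hxV ⟨n, hn⟩ y hy
    have hp : IsPGroup 2 (zpowers x) := by
      rintro ⟨z, hz⟩
      obtain ⟨m, rfl⟩ := mem_zpowers_iff.1 hz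
      refine ⟨n, Subtype.ext ?_⟩
      show (x ^ m) ^ 2 ^ n = 1
      rw [← zpow_natCast, ← zpow_mul, mul_comm, zpow_mul, zpow_natCast, hn, one_zpow]
    have hsyl : ChoiceSit.Syl (S : Subgroup G) P :=
      ⟨h.SP, S.isPGroup', fun _ _ hT hST => S.is_maximal' hT hST⟩
    obtain ⟨T, hT, hxT⟩ := ChoiceSit.exists_syl hp ((zpowers_le (H := P)).2 hx.1)
    obtain ⟨g, hg, e⟩ := ChoiceSit.syl_conj hT hsyl
    have h1 : g * x * g⁻¹ ∈ (S : Subgroup G) := by
      rw [← e]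
      exact ⟨x, hxT (mem_zpowers x), rfl⟩
    have h3 : g * x * g⁻¹ ∈ o2 P := by
      rw [← IsParS.inf_centralizer S h.char2 h.star]
      refine ⟨h1, mem_centralizer_iff.2 fun v hv => ?_⟩
      have hv' : g⁻¹ * v * g ∈ zl (S : Subgroup G) P := by
        have := conj_mem h.PV (inv_mem hg) hv
        rwa [inv_inv] at this
      have h5 := hxV _ hv'
      calc v * (g * x * g⁻¹) = g * ((g⁻¹ * v * g) * x) * g⁻¹ := by group
        _ = g * (x * (g⁻¹ * v * g)) * g⁻¹ := by rw [h5]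
        _ = g * x * g⁻¹ * v := by group
    have h4 : x ∈ o2 P := by
      have := conj_mem (le_normalizer_o2 P) (inv_mem hg) h3
      have e1 : g⁻¹ * (g * x * g⁻¹) * g⁻¹⁻¹ = x := by group
      rwa [e1] at this
    exact (mem_zc.1 hy).2.2 x h4
  -- squares
  have hsq : ∀ y ∈ zc (o2 P), g ^ 2 * y = y * g ^ 2 := by
    intro y hy
    have hδ := hg.2 y hy
    set δ := g * y * g⁻¹ * y⁻¹ with hδd
    have e1 : g * y * g⁻¹ = δ * y := by rw [hδd]; group
    have e2 : g * δ * g⁻¹ = δ := by rw [hgV δ hδ]; group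
    have hδδ : δ * δ = 1 := by
      have := elem_sq h.elem δ (h.VX hδ); rwa [pow_two] at this
    have e5 : g ^ 2 * y * (g ^ 2)⁻¹ = y := by
      have e3 : g ^ 2 * y * (g ^ 2)⁻¹ = g * (g * y * g⁻¹) * g⁻¹ := by rw [pow_two]; group
      have e4 : g * (δ * y) * g⁻¹ = (g * δ * g⁻¹) * (g * y * g⁻¹) := by group
      rw [e3, e1, e4, e1, e2, ← mul_assoc, hδδ, one_mul]
    calc g ^ 2 * y = g ^ 2 * y * (g ^ 2)⁻¹ * g ^ 2 := by group
      _ = y * g ^ 2 := by rw [e5]
  intro y hy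
  obtain ⟨a, m, hm1, hm2⟩ := Nat.exists_eq_two_pow_mul_odd (isOfFinOrder_of_finite g).orderOf_pos.ne'
  obtain ⟨r, hr⟩ := hm1
  have h1 : g ^ m * y = y * g ^ m := by
    refine h2 _ (pow_mem hg m) (fun v hv => ?_) ⟨a, ?_⟩ y hy
    · exact ((show Commute g v from hgV v hv).pow_left m).eq
    · rw [← pow_mul, mul_comm, ← hm2, pow_orderOf_eq_one]
  have h3 : Commute (g ^ m) y := h1
  have h4 : Commute ((g ^ 2) ^ r) y := (show Commute (g ^ 2) y from hsq y hy).pow_left r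
  have h5 : g = ((g ^ 2) ^ r)⁻¹ * g ^ m := by
    rw [← pow_mul, hr, pow_succ, inv_mul_cancel_left]
  rw [h5]
  exact (h4.inv_left.mul_left h3).eq

/-- **`Ω₁(Z(Q)) = V`**, from the blocks `E j ≤ N₀`: on every coset of `V` in `Ω₁(Z(Q))` the block `E j` has a fixed
point, the fixed points of the blocks on the cosets are independent, `C_V(⟨E j⟩) = 1`, `⟨E j⟩` is normal modulo
`C(V)`. -/
theorem zc_eq_of {ι : Type*} (E : ι → Subgroup G) (hE : ∀ j, E j ≤ h.N0)
    (hfix : ∀ j, ∀ y ∈ zc (o2 P), ∃ v ∈ zl (S : Subgroup G) P, ∀ g ∈ E j, g * (y * v) = y * v * g)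
    (hind : ∀ w : ι → G, (∀ j, w j ∈ zl (S : Subgroup G) P) → ∃ v ∈ zl (S : Subgroup G) P, ∀ j, ∀ g ∈ E j,
      g * (v * (w j)⁻¹) = v * (w j)⁻¹ * g)
    (hone : ∀ v ∈ zl (S : Subgroup G) P, (∀ j, ∀ g ∈ E j, g * v = v * g) → v = 1)
    (hnorm : ∀ s ∈ (S : Subgroup G), ∀ j, ∀ g ∈ E j, ∃ m ∈ ⨆ j, E j, ∀ v ∈ zl (S : Subgroup G) P,
      s * g * s⁻¹ * v * (s * g * s⁻¹)⁻¹ = m * v * m⁻¹) :
    zc (o2 P) = zl (S : Subgroup G) P := by
  refine le_antisymm ?_ h.VQ
  by_contra hne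
  have hzS : zc (o2 P) ≤ (S : Subgroup G) := (zc_le _).trans h.QS
  obtain ⟨y, hy, hyV, hyS⟩ := exists_fixed (M := zl (S : Subgroup G) P) S.isPGroup' hzS
    (h.SP.trans h.zcQ_norm) hne
  have hyc : ∀ x ∈ zc (o2 P), ∀ z ∈ zc (o2 P), x * z = z * x := fun x hx z hz => h.Xc x (h.QX hx) z (h.QX hz)
  choose w hw hwE using fun j => hfix j y hy
  obtain ⟨v, hv, hvE⟩ := hind w hw
  -- `y v` is fixed by all blocks
  have h1 : ∀ j, ∀ g ∈ E j, g * (y * v) = y * v * g := by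
    intro j g hg
    have e : y * v = (y * w j) * (v * (w j)⁻¹) := by
      have h2 := hyc (w j) (h.VQ (hw j)) v (h.VQ hv)
      calc y * v = y * (v * w j) * (w j)⁻¹ := by group
        _ = y * (w j * v) * (w j)⁻¹ := by rw [h2]
        _ = _ := by group
    have c1 : Commute g (y * w j) := hwE j g hg
    have c2 : Commute g (v * (w j)⁻¹) := hvE j g hg
    rw [e]
    exact (c1.mul_right c2).eq
  have hyv : y * v ∈ zc (o2 P) := mul_mem hy (h.VQ hv)
  have hsup : (⨆ j, E j) ≤ centralizer {y * v} := iSup_le fun j g hg => by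
    rw [mem_centralizer_singleton_iff]
    exact h1 j g hg
  have hsup0 : (⨆ j, E j) ≤ h.N0 := iSup_le hE
  -- `S` fixes `y v`
  have h3 : ∀ s ∈ (S : Subgroup G), s * (y * v) * s⁻¹ = y * v := by
    intro s hs
    have hsP := h.SP hs
    have hsy : s * (y * v) * s⁻¹ ∈ zc (o2 P) := conj_mem h.zcQ_norm hsP hyv
    have h4 : s * (y * v) * s⁻¹ * (y * v)⁻¹ ∈ zl (S : Subgroup G) P := by
      have e : s * (y * v) * s⁻¹ * (y * v)⁻¹ = (s * y * s⁻¹ * y⁻¹) * ((s * v * s⁻¹) * v⁻¹) := by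
        have h5 := hyc (s * v * s⁻¹) (h.VQ (conj_mem h.PV hsP hv)) (y⁻¹) (inv_mem hy)
        have h6 := hyc (s * v * s⁻¹ * v⁻¹) (h.VQ (mul_mem (conj_mem h.PV hsP hv) (inv_mem hv))) y⁻¹ (inv_mem hy)
        calc s * (y * v) * s⁻¹ * (y * v)⁻¹ = (s * y * s⁻¹) * ((s * v * s⁻¹ * v⁻¹) * y⁻¹) := by group
          _ = (s * y * s⁻¹) * (y⁻¹ * (s * v * s⁻¹ * v⁻¹)) := by rw [h6]
          _ = _ := by group
      rw [e]
      exact mul_mem (hyS s hs) (mul_mem (conj_mem h.PV hsP hv) (inv_mem hv))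
    have h5 := hone _ h4 ?_
    · exact mul_inv_eq_one.1 h5
    · intro j g hg
      have c1 : Commute g (y * v) := h1 j g hg
      -- `s⁻¹ g s` acts as an element of `⟨E j⟩`
      obtain ⟨m, hm, hmv⟩ := hnorm s⁻¹ (inv_mem hs) j g hg
      rw [inv_inv] at hmv
      have hgN : s⁻¹ * g * s ∈ h.N0 := by
        have := conj_mem h.N0_norm (inv_mem hsP) (hE j hg)
        rwa [inv_inv] at this
      have h6 : m⁻¹ * (s⁻¹ * g * s) ∈ h.N0 := mul_mem (inv_mem (hsup0 hm)) hgN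
      have h7 := h.cent_zcQ h6 (fun u hu => by
        have h8 := hmv u hu
        calc m⁻¹ * (s⁻¹ * g * s) * u = m⁻¹ * (s⁻¹ * g * s * u * (s⁻¹ * g * s)⁻¹) * (s⁻¹ * g * s) := by group
          _ = m⁻¹ * (m * u * m⁻¹) * (s⁻¹ * g * s) := by rw [h8]
          _ = _ := by group) (y * v) hyv
      have h8 : Commute m (y * v) := mem_centralizer_singleton_iff.1 (hsup hm)
      have h9 : Commute (s⁻¹ * g * s) (y * v) := by
        have e : s⁻¹ * g * s = m * (m⁻¹ * (s⁻¹ * g * s)) := by group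
        rw [e]
        exact h8.mul_left h7
      have c2 : Commute g (s * (y * v) * s⁻¹) := by
        show g * (s * (y * v) * s⁻¹) = s * (y * v) * s⁻¹ * g
        calc g * (s * (y * v) * s⁻¹) = s * ((s⁻¹ * g * s) * (y * v)) * s⁻¹ := by group
          _ = s * ((y * v) * (s⁻¹ * g * s)) * s⁻¹ := by rw [h9.eq]
          _ = _ := by group
      exact (c2.mul_right c1.inv_right).eq
  have hZ : y * v ∈ zc (S : Subgroup G) := by
    refine mem_zc.2 ⟨hzS hyv, (mem_zc.1 hyv).2.1, fun s hs => ?_⟩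
    calc s * (y * v) = s * (y * v) * s⁻¹ * s := by group
      _ = y * v * s := by rw [h3 s hs]
  apply hyV
  have h4 := mul_mem (zc_le_zl _ _ hZ : y * v ∈ zl (S : Subgroup G) P) (inv_mem hv)
  rwa [mul_inv_cancel_right] at h4

end Exa

end Cfsg.Agent.Omega.NO3S.OneLine

end

section


/-!
# Sums of natural modules: offenders centralise the full preimage (module form)

`NatKM` (module form of the FF theorem) for a minimal parabolic `H`, no hypothesis on `J(T)`: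

* `NatC.cent_of_stab`: elements acting trivially on `V / D` and on `D` centralise `V` (copied from
  `SQ1/FFKNat.lean`, where `J(T) ≰ O₂(H)` is a field);
* `NatC.cent_line`: an offender `A ≤ T` on `V` centralises `{v | ∀ i, e v i 1 = 0}`.
-/

set_option autoImplicit false
set_option linter.unusedSectionVars false
set_option linter.unusedVariables false

namespace Cfsg.Agent.Omega.NO3S.OneLine

open Subgroup Cfsg Cfsg.Agent.PLocal.ThompsonJ Cfsg.Agent.ZN Cfsg.Agent.ZN.ChoiceBase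
open Cfsg.Agent.ZN.ChoiceSit
open Cfsg.Agent.Omega.NatPair Cfsg.Agent.Lib.SL2Mat
open Cfsg.Agent.PLocal.ElemAbSup
open Cfsg.Agent.Omega.SQ1.FFOne
open Cfsg.Agent.Omega.SQ1.Bau (mem_AA_of_comm zj_le_AA elem_comm elem_sq mem_sup_comm card_sup_comm
  mem_sup_norm)
open Cfsg.Agent.Omega.FFThm (NatK ActsSL Off OffM NatKM ElemM)
open Cfsg.Agent.Omega.FrameFF (cv)

universe u

/-- `|K| = |L| |B|` for a homomorphism of `K` onto `B` with kernel `L`. -/
theorem card_of_hom {G : Type*} [Group G] {B : Type*} [AddCommGroup B] {K L : Subgroup G} (hLK : L ≤ K) (f : G → B)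
    (hf : ∀ v ∈ K, ∀ w ∈ K, f (v * w) = f v + f w) (hs : ∀ c, ∃ v ∈ K, f v = c)
    (hk : ∀ v ∈ K, f v = 0 ↔ v ∈ L) : Nat.card K = Nat.card L * Nat.card B := by
  let φ : K →* Multiplicative B := MonoidHom.mk' (fun v => Multiplicative.ofAdd (f v)) (by
    rintro ⟨v, hv⟩ ⟨w, hw⟩
    exact congrArg Multiplicative.ofAdd (hf v hv w hw))
  have hφ : Function.Surjective φ := by
    intro c
    obtain ⟨v, hv, h⟩ := hs (Multiplicative.toAdd c)
    exact ⟨⟨v, hv⟩, congrArg Multiplicative.ofAdd h⟩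
  have h1 : Nat.card φ.ker * Nat.card φ.range = Nat.card K := by
    rw [← Subgroup.index_ker, Subgroup.card_mul_index]
  have h2 : Nat.card φ.range = Nat.card B := by
    rw [MonoidHom.range_eq_top.2 hφ, Subgroup.card_top]
    rfl
  have h3 : Nat.card φ.ker = Nat.card L := by
    refine Nat.card_congr ⟨fun v => ⟨v.1.1, (hk v.1.1 v.1.2).1 ?_⟩, fun z => ⟨⟨z.1, hLK z.2⟩, ?_⟩, fun _ => rfl,
      fun _ => rfl⟩
    · exact congrArg Multiplicative.toAdd (MonoidHom.mem_ker.1 v.2)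
    · exact MonoidHom.mem_ker.2 (congrArg Multiplicative.ofAdd ((hk z.1 (hLK z.2)).2 z.2))
  rw [← h1, h2, h3]

/-- `|K| ≤ |L| |B|` for a homomorphism of `K` to `B` with kernel in `L`. -/
theorem card_le_of_hom {G : Type*} [Group G] [Finite G] {B : Type*} [AddCommGroup B] [Finite B] {K L : Subgroup G}
    (f : G → B) (hf : ∀ v ∈ K, ∀ w ∈ K, f (v * w) = f v + f w)
    (hk : ∀ v ∈ K, f v = 0 → v ∈ L) : Nat.card K ≤ Nat.card L * Nat.card B := by
  let φ : K →* Multiplicative B := MonoidHom.mk' (fun v => Multiplicative.ofAdd (f v)) (by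
    rintro ⟨v, hv⟩ ⟨w, hw⟩
    exact congrArg Multiplicative.ofAdd (hf v hv w hw))
  have h1 : Nat.card φ.ker * Nat.card φ.range = Nat.card K := by
    rw [← Subgroup.index_ker, Subgroup.card_mul_index]
  have h2 : Nat.card φ.range ≤ Nat.card B := by
    have : Finite (Multiplicative B) := inferInstanceAs (Finite B)
    exact (Subgroup.card_le_card_group φ.range)
  have h3 : Nat.card φ.ker ≤ Nat.card L := by
    refine Nat.card_le_card_of_injective (fun v : φ.ker => (⟨v.1.1, hk v.1.1 v.1.2 ?_⟩ : L)) ?_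
    · exact congrArg Multiplicative.toAdd (MonoidHom.mem_ker.1 v.2)
    · intro v w h
      have h0 : v.1.1 = w.1.1 := congrArg (fun x : L => (x : G)) h
      exact Subtype.ext (Subtype.ext h0)
  rw [← h1]
  exact Nat.mul_le_mul h3 h2

variable {G : Type u} [Group G]

/-- The data of `NatK` together with the elementary facts on `V`. -/
structure NatC (F : Type) [Field F] (T H V D : Subgroup G) (k : ℕ) where
  nat : NatK F T H V D k
  DV : D ≤ V
  Vn : ∀ h ∈ H, ∀ v ∈ V, h * v * h⁻¹ ∈ V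
  VQ : V ≤ o2 H
  Vsq : ∀ v ∈ V, v ^ 2 = 1
  VcQ : ∀ x ∈ o2 H, ∀ v ∈ V, x * v = v * x
  pos : 0 < k

namespace NatC

variable {F : Type} [Field F] {T H V D : Subgroup G} {k : ℕ} (M : NatC F T H V D k)

include M

theorem Vcomm {v w : G} (hv : v ∈ V) (hw : w ∈ V) : v * w = w * v := M.VcQ v (M.VQ hv) w hw

theorem map_one : M.nat.e 1 = 0 := by
  have := M.nat.mul 1 (one_mem V) 1 (one_mem V)
  rw [one_mul] at this
  exact left_eq_add.1 this

theorem map_inv {v : G} (hv : v ∈ V) : M.nat.e v⁻¹ = - M.nat.e v := by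
  have := M.nat.mul v hv v⁻¹ (inv_mem hv)
  rw [mul_inv_cancel, M.map_one] at this
  exact (neg_eq_of_add_eq_zero_right this.symm).symm

theorem map_div {v w : G} (hv : v ∈ V) (hw : w ∈ V) :
    M.nat.e (v * w⁻¹) = M.nat.e v - M.nat.e w := by
  rw [M.nat.mul v hv _ (inv_mem hw), M.map_inv hw, sub_eq_add_neg]

theorem Dn : ∀ h ∈ H, ∀ d ∈ D, h * d * h⁻¹ ∈ D := by
  intro h hh d hd
  obtain ⟨σ, hσ⟩ := M.nat.perm h hh
  rw [← M.nat.ker _ (M.Vn h hh d (M.DV hd))]
  funext j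
  obtain ⟨i, rfl⟩ := σ.surjective j
  rw [Pi.zero_apply, hσ d (M.DV hd) i, (M.nat.ker d (M.DV hd)).2 hd]
  rfl

/-- `g` acts on the coordinates as `A`. -/
def Acts (M : NatC F T H V D k) (g : G) (A : Fin k → Matrix.SpecialLinearGroup (Fin 2) F) : Prop :=
  ∀ v ∈ V, ∀ i, M.nat.e (g * v * g⁻¹) i = ap (A i) (M.nat.e v i)

omit M in
theorem acts_mul {M : NatC F T H V D k} {g h : G}
    {A B : Fin k → Matrix.SpecialLinearGroup (Fin 2) F} (hh : h ∈ H)
    (hA : M.Acts g A) (hB : M.Acts h B) : M.Acts (g * h) (A * B) := by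
  intro v hv i
  have e : g * h * v * (g * h)⁻¹ = g * (h * v * h⁻¹) * g⁻¹ := by group
  rw [e, hA _ (M.Vn h hh v hv) i, hB v hv i, Pi.mul_apply, ap_mul]

omit M in
theorem acts_inv {M : NatC F T H V D k} {g : G}
    {A : Fin k → Matrix.SpecialLinearGroup (Fin 2) F} (hg : g ∈ H)
    (hA : M.Acts g A) : M.Acts g⁻¹ A⁻¹ := by
  intro v hv i
  have h1 := hA _ (M.Vn g⁻¹ (inv_mem hg) v hv) i
  have e : g * (g⁻¹ * v * g⁻¹⁻¹) * g⁻¹ = v := by group
  rw [e] at h1
  rw [h1, Pi.inv_apply, ap_inv_ap]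

omit M in
theorem acts_one {M : NatC F T H V D k} : M.Acts 1 1 := by
  intro v hv i
  rw [one_mul, inv_one, mul_one, Pi.one_apply, ap_one]

omit M in
theorem acts_unique {M : NatC F T H V D k} {g : G}
    {A B : Fin k → Matrix.SpecialLinearGroup (Fin 2) F} (hA : M.Acts g A) (hB : M.Acts g B) :
    A = B := by
  funext i
  apply ap_inj
  intro x
  obtain ⟨v, hv, e⟩ := M.nat.surj fun _ => x
  have h1 := hA v hv i
  rw [hB v hv i, e] at h1
  exact h1.symm

/-- the stability group of `V ≥ D ≥ 1` -/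
def stab (M : NatC F T H V D k) : Subgroup G where
  carrier := {x | x ∈ H ∧ M.Acts x 1 ∧ ∀ d ∈ D, x * d = d * x}
  mul_mem' := by
    rintro a b ⟨ha, ha', ha2⟩ ⟨hb, hb', hb2⟩
    refine ⟨mul_mem ha hb, ?_, fun d hd => ?_⟩
    · have := acts_mul hb ha' hb'
      rwa [mul_one] at this
    · have e1 : Commute a d := ha2 d hd
      have e2 : Commute b d := hb2 d hd
      exact (e1.mul_left e2).eq
  one_mem' := ⟨one_mem H, acts_one, fun d _ => by simp⟩
  inv_mem' := by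
    rintro a ⟨ha, ha', ha2⟩
    refine ⟨inv_mem ha, ?_, fun d hd => ?_⟩
    · have := acts_inv ha ha'
      rwa [inv_one] at this
    · have e1 : Commute a d := ha2 d hd
      exact e1.inv_left.eq

theorem stab_norm : ∀ g ∈ H, ∀ x ∈ M.stab, g * x * g⁻¹ ∈ M.stab := by
  rintro g hg x ⟨hx, hx1, hx2⟩
  refine ⟨mul_mem (mul_mem hg hx) (inv_mem hg), fun v hv i => ?_, fun d hd => ?_⟩
  · have hv' : g⁻¹ * v * g ∈ V := by
      have := M.Vn g⁻¹ (inv_mem hg) v hv
      rwa [inv_inv] at this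
    set w := g⁻¹ * v * g with hw
    have hxw := M.Vn x hx w hv'
    have h1 : x * w * x⁻¹ * w⁻¹ ∈ D := by
      rw [← M.nat.ker _ (mul_mem hxw (inv_mem hv')), M.map_div hxw hv']
      funext j
      rw [Pi.sub_apply, hx1 w hv' j, Pi.one_apply, ap_one, sub_self]
      rfl
    have h2 := (M.nat.ker _ (M.DV (M.Dn g hg _ h1))).2 (M.Dn g hg _ h1)
    have e1 : g * (x * w * x⁻¹ * w⁻¹) * g⁻¹ = (g * x * g⁻¹ * v * (g * x * g⁻¹)⁻¹) * v⁻¹ := by
      rw [hw]; group
    have h3 : g * x * g⁻¹ * v * (g * x * g⁻¹)⁻¹ ∈ V :=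
      M.Vn _ (mul_mem (mul_mem hg hx) (inv_mem hg)) v hv
    rw [e1, M.map_div h3 hv, sub_eq_zero] at h2
    rw [h2, Pi.one_apply, ap_one]
  · have hd' : g⁻¹ * d * g ∈ D := by
      have := M.Dn g⁻¹ (inv_mem hg) d hd
      rwa [inv_inv] at this
    have h1 := hx2 _ hd'
    calc g * x * g⁻¹ * d = g * (x * (g⁻¹ * d * g)) * g⁻¹ := by group
      _ = g * (g⁻¹ * d * g * x) * g⁻¹ := by rw [h1]
      _ = d * (g * x * g⁻¹) := by group

theorem stab_sup_ne [CharP F 2] (hT : Syl T H) : M.stab ⊔ T ≠ H := by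
  intro e
  have hneg : (-1 : F) = 1 := CharTwo.neg_eq 1
  set A : Matrix.SpecialLinearGroup (Fin 2) F :=
    Cfsg.Agent.Lib.SL2Mat.mk 0 1 1 1 (by rw [zero_mul, one_mul, zero_sub]; exact hneg) with hA
  have hA3 : A ^ 3 = 1 := by
    have h1 : (1 : F) + 1 = 0 := CharTwo.add_self_eq_zero 1
    rw [pow_succ, pow_two]
    apply ext_ent
    · rw [ent_mul, ent_mul, ent_mul]; simp [hA, h1]
    · rw [ent_mul, ent_mul, ent_mul]; simp [hA, h1]
    · rw [ent_mul, ent_mul, ent_mul]; simp [hA, h1]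
    · rw [ent_mul, ent_mul, ent_mul]; simp [hA, h1]
  have hA1 : A ≠ 1 := by
    intro h
    have h2 : ent A 0 0 = ent (1 : Matrix.SpecialLinearGroup (Fin 2) F) 0 0 := by rw [h]
    rw [ent_one_00, hA, mk_00] at h2
    exact zero_ne_one h2
  obtain ⟨g, hg, hgA, -⟩ := M.nat.lift fun _ => A
  have hg' : g ∈ M.stab ⊔ T := by rw [e]; exact hg
  obtain ⟨t, ht, x, hx, rfl⟩ : ∃ t ∈ T, ∃ x ∈ M.stab, g = t * x := by
    refine mem_sup_norm (fun t ht => ?_) (by rwa [sup_comm] at hg')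
    rw [mem_normalizer_iff]
    refine fun x => ⟨M.stab_norm t (hT.1 ht) x, fun hx => ?_⟩
    have := M.stab_norm t⁻¹ (inv_mem (hT.1 ht)) _ hx
    have e : t⁻¹ * (t * x * t⁻¹) * t⁻¹⁻¹ = x := by group
    rwa [e] at this
  have htH := hT.1 ht
  have htA : M.Acts t fun _ => A := by
    have h1 := acts_mul (inv_mem hx.1) (show M.Acts (t * x) (fun _ => A) from hgA)
      (acts_inv hx.1 hx.2.1)
    rwa [mul_inv_cancel_right, inv_one, mul_one] at h1
  obtain ⟨n, hn⟩ := hT.2.1 ⟨t, ht⟩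
  have hn' : t ^ 2 ^ n = 1 := by simpa using congrArg Subtype.val hn
  have hpow : ∀ m : ℕ, M.Acts (t ^ m) ((fun _ => A) ^ m) := by
    intro m
    induction m with
    | zero => rw [pow_zero, pow_zero]; exact acts_one
    | succ m ih => rw [pow_succ, pow_succ]; exact acts_mul htH ih htA
  have h2 := hpow (2 ^ n)
  rw [hn'] at h2
  have h3 := congrFun (acts_unique h2 acts_one) ⟨0, M.pos⟩
  rw [Pi.pow_apply, Pi.one_apply] at h3
  have h4 : orderOf A ∣ 2 ^ n := orderOf_dvd_of_pow_eq_one h3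
  have h5 : orderOf A ∣ 3 := orderOf_dvd_of_pow_eq_one hA3
  have h6 : Nat.Coprime (2 ^ n) 3 := Nat.Coprime.pow_left _ (by norm_num)
  have h7 : orderOf A = 1 := Nat.eq_one_of_dvd_coprimes h6 h4 h5
  exact hA1 (orderOf_eq_one_iff.1 h7)

/-- Elements acting trivially on `V / D` and on `D` centralise `V`. -/
theorem cent_of_stab [Finite G] [CharP F 2] (hm : MinH H T) {x : G} (hx : x ∈ M.stab) {v : G}
    (hv : v ∈ V) : x * v = v * x := by
  have hTs : T ⊓ M.stab ≤ o2 H := hm.inf_le (fun _ h => h.1) M.stab_norm (M.stab_sup_ne hm.syl)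
  -- 2-elements of the stability group
  have h2el : ∀ y ∈ M.stab, (∃ n : ℕ, y ^ 2 ^ n = 1) → ∀ v ∈ V, y * v = v * y := by
    rintro y hy ⟨n, hn⟩ v hv
    have hp : IsPGroup 2 (zpowers y) := by
      rintro ⟨z, hz⟩
      obtain ⟨m, rfl⟩ := mem_zpowers_iff.1 hz
      refine ⟨n, Subtype.ext ?_⟩
      show (y ^ m) ^ 2 ^ n = 1
      rw [← zpow_natCast, ← zpow_mul, mul_comm, zpow_mul, zpow_natCast, hn, one_zpow]
    obtain ⟨S, hS, hyS⟩ := exists_syl hp ((zpowers_le (H := H)).2 hy.1)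
    obtain ⟨g, hg, e⟩ := syl_conj hS hm.syl
    have h1 : g * y * g⁻¹ ∈ T := by
      rw [← e]
      exact ⟨y, hyS (mem_zpowers y), rfl⟩
    have h3 := hTs ⟨h1, M.stab_norm g hg y hy⟩
    have hv' := M.Vn g hg v hv
    have h4 := M.VcQ _ h3 _ hv'
    have e1 : g * y * g⁻¹ * (g * v * g⁻¹) = g * (y * v) * g⁻¹ := by group
    have e2 : g * v * g⁻¹ * (g * y * g⁻¹) = g * (v * y) * g⁻¹ := by group
    rw [e1, e2] at h4
    exact mul_left_cancel (mul_right_cancel h4)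
  -- squares centralise `V`
  have hsq : ∀ v ∈ V, x ^ 2 * v = v * x ^ 2 := by
    intro v hv
    have hxv := M.Vn x hx.1 v hv
    set d := x * v * x⁻¹ * v⁻¹ with hd
    have hdD : d ∈ D := by
      rw [← M.nat.ker _ (mul_mem hxv (inv_mem hv)), M.map_div hxv hv]
      funext j
      rw [Pi.sub_apply, hx.2.1 v hv j, Pi.one_apply, ap_one, sub_self]
      rfl
    have e1 : x * v * x⁻¹ = d * v := by rw [hd]; group
    have e2 : x * d * x⁻¹ = d := by rw [hx.2.2 d hdD]; group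
    have hdd : d * d = 1 := by
      have := M.Vsq d (M.DV hdD); rwa [pow_two] at this
    have e3 : x ^ 2 * v * (x ^ 2)⁻¹ = x * (x * v * x⁻¹) * x⁻¹ := by
      simp only [pow_two, mul_inv_rev, mul_assoc]
    have e4 : x * (d * v) * x⁻¹ = (x * d * x⁻¹) * (x * v * x⁻¹) := by group
    have e5 : x ^ 2 * v * (x ^ 2)⁻¹ = v := by
      rw [e3, e1, e4, e1, e2, ← mul_assoc, hdd, one_mul]
    calc x ^ 2 * v = x ^ 2 * v * (x ^ 2)⁻¹ * x ^ 2 := by group
      _ = v * x ^ 2 := by rw [e5]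
  -- the odd part
  obtain ⟨a, m, hm1, hm2⟩ := Nat.exists_eq_two_pow_mul_odd (isOfFinOrder_of_finite x).orderOf_pos.ne'
  obtain ⟨r, hr⟩ := hm1
  have h1 : ∀ v ∈ V, x ^ m * v = v * x ^ m := by
    refine h2el _ (pow_mem hx m) ⟨a, ?_⟩
    rw [← pow_mul, mul_comm, ← hm2, pow_orderOf_eq_one]
  have h3 : Commute (x ^ m) v := h1 v hv
  have h4 : Commute ((x ^ 2) ^ r) v := (show Commute (x ^ 2) v from hsq v hv).pow_left r
  have h5 : x = ((x ^ 2) ^ r)⁻¹ * x ^ m := by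
    rw [← pow_mul, hr, pow_succ, inv_mul_cancel_left]
  rw [h5]
  exact (h4.inv_left.mul_left h3).eq

/-- **An offender centralises the full preimage** of the product of the lines. -/
theorem cent_line [Finite G] [Finite F] [CharP F 2] (hm : MinH H T) {A : Subgroup G} (hA : A ≤ T)
    (hoff : Nat.card V * Nat.card ↥(A ⊓ centralizer (V : Set G)) ≤
      Nat.card A * Nat.card ↥(V ⊓ centralizer (A : Set G))) {I : Set (Fin k)}
    (h1 : ∀ a ∈ A, ∃ b : Fin k → F, (∀ i, i ∉ I → b i = 0) ∧ ActsSL M.nat.e V D a fun i => up (b i))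
    (h2 : ∀ b : Fin k → F, (∀ i, i ∉ I → b i = 0) → ∃ a ∈ A, ActsSL M.nat.e V D a fun i => up (b i))
    {v : G} (hv : v ∈ V) (hl : ∀ i, M.nat.e v i 1 = 0) {a : G} (ha : a ∈ A) : a * v = v * a := by
  classical
  have hTH := hm.syl.1
  -- the coordinates of an element of `A`
  let f : G → Fin k → F := fun a => if h : a ∈ A then (h1 a h).choose else 0
  have hf : ∀ a ∈ A, (∀ i, i ∉ I → f a i = 0) ∧ ActsSL M.nat.e V D a fun i => up (f a i) := by
    intro a ha
    have : f a = (h1 a ha).choose := dif_pos ha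
    rw [this]
    exact (h1 a ha).choose_spec
  have hfu : ∀ a ∈ A, ∀ b : Fin k → F, M.Acts a (fun i => up (b i)) → f a = b := by
    intro a ha b hb
    have h3 := acts_unique (M := M) (hf a ha).2.1 hb
    funext i
    have h4 : ent (up (f a i)) 0 1 = ent (up (b i)) 0 1 := by
      have := congrFun h3 i
      rw [this]
    rwa [up_01, up_01] at h4
  -- `|A| ≤ |C_A(V)| q^|I|`
  have hcA : Nat.card A ≤ Nat.card ↥(A ⊓ centralizer (V : Set G)) * Nat.card (I → F) := by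
    refine card_le_of_hom (fun a (i : I) => f a i) ?_ ?_
    · intro a ha b hb
      have h3 : f (a * b) = f a + f b := by
        refine hfu _ (mul_mem ha hb) _ ?_
        have h4 := acts_mul (M := M) (hTH (hA hb)) (hf a ha).2.1 (hf b hb).2.1
        have e : ((fun i => up (f a i)) * fun i => up (f b i)) = fun i => up ((f a + f b) i) := by
          funext i
          rw [Pi.mul_apply, up_mul, Pi.add_apply]
        rwa [e] at h4
      funext i
      rw [h3]; rfl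
    · intro a ha h0
      have h3 : f a = 0 := by
        funext i
        by_cases hi : i ∈ I
        · exact congrFun h0 ⟨i, hi⟩
        · exact (hf a ha).1 i hi
      refine ⟨ha, mem_centralizer_iff.2 fun w hw => ?_⟩
      have hs : a ∈ M.stab := by
        refine ⟨hTH (hA ha), ?_, (hf a ha).2.2⟩
        have h4 := (hf a ha).2.1
        rw [h3] at h4
        intro w hw i
        have h5 : M.nat.e (a * w * a⁻¹) i = ap (up ((0 : Fin k → F) i)) (M.nat.e w i) := h4 w hw i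
        rw [Pi.zero_apply, up_zero] at h5
        exact h5
      exact (M.cent_of_stab hm hs hw).symm
  -- `W`
  let W : Subgroup G :=
    { carrier := {w | w ∈ V ∧ ∀ i ∈ I, M.nat.e w i 1 = 0}
      mul_mem' := by
        rintro x y ⟨hx, hx'⟩ ⟨hy, hy'⟩
        refine ⟨mul_mem hx hy, fun i hi => ?_⟩
        rw [M.nat.mul x hx y hy, Pi.add_apply, Pi.add_apply, hx' i hi, hy' i hi, add_zero]
      one_mem' := ⟨one_mem _, fun i _ => by rw [M.map_one]; rfl⟩
      inv_mem' := by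
        rintro x ⟨hx, hx'⟩
        refine ⟨inv_mem hx, fun i hi => ?_⟩
        rw [M.map_inv hx, Pi.neg_apply, Pi.neg_apply, hx' i hi, neg_zero] }
  have hcV : Nat.card V = Nat.card W * Nat.card (I → F) := by
    refine card_of_hom (fun w hw => hw.1) (fun w (i : I) => M.nat.e w i 1) ?_ ?_ ?_
    · intro x hx y hy
      funext i
      rw [M.nat.mul x hx y hy]; rfl
    · intro c
      obtain ⟨w, hw, e⟩ := M.nat.surj fun i => ![0, if h : i ∈ I then c ⟨i, h⟩ else 0]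
      refine ⟨w, hw, ?_⟩
      funext i
      rw [e]
      simp
    · intro x hx
      constructor
      · intro h0
        exact ⟨hx, fun i hi => congrFun h0 ⟨i, hi⟩⟩
      · intro h0
        funext i
        exact h0.2 i i.2
  have hle : V ⊓ centralizer (A : Set G) ≤ W := by
    rintro w ⟨hw, hwA⟩
    refine ⟨hw, fun i hi => ?_⟩
    obtain ⟨b, hb, hb'⟩ := h2 (Pi.single i 1) fun j hj => by
      rw [Pi.single_eq_of_ne]
      rintro rfl
      exact hj hi
    have h3 : M.nat.e (b * w * b⁻¹) i = ap (up ((Pi.single i 1 : Fin k → F) i)) (M.nat.e w i) := hb'.1 w hw i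
    have h4 : b * w * b⁻¹ = w := by rw [mem_centralizer_iff.1 hwA b hb]; group
    rw [h4, Pi.single_eq_same] at h3
    have h5 := congrFun h3 0
    rw [ap_zero', up_00, up_01, one_mul, one_mul] at h5
    exact left_eq_add.1 h5
  have hWle : Nat.card W ≤ Nat.card ↥(V ⊓ centralizer (A : Set G)) := by
    have hp1 : 0 < Nat.card ↥(A ⊓ centralizer (V : Set G)) := Nat.card_pos
    have hp2 : 0 < Nat.card (I → F) := Nat.card_pos
    have h3 : Nat.card ↥(A ⊓ centralizer (V : Set G)) * Nat.card (I → F) * Nat.card W ≤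
        Nat.card ↥(A ⊓ centralizer (V : Set G)) * Nat.card (I → F) * Nat.card ↥(V ⊓ centralizer (A : Set G)) := by
      calc _ = Nat.card V * Nat.card ↥(A ⊓ centralizer (V : Set G)) := by rw [hcV]; ring
        _ ≤ _ := hoff
        _ ≤ _ := Nat.mul_le_mul_right _ hcA
    exact Nat.le_of_mul_le_mul_left h3 (Nat.mul_pos hp1 hp2)
  have hWeq := Subgroup.eq_of_le_of_card_ge hle hWle
  have hvW : v ∈ W := ⟨hv, fun i _ => hl i⟩
  rw [← hWeq] at hvW
  exact mem_centralizer_iff.1 hvW.2 a ha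

end NatC

/-- The data for a minimal parabolic. -/
def natC_of [Finite G] {F : Type} [Field F] {T H : Subgroup G} {k : ℕ} (hm : MinH H T) (hk : 0 < k)
    (M : NatK F T H (zl T H) (cv T H) k) : NatC F T H (zl T H) (cv T H) k where
  nat := M
  DV := inf_le_left
  Vn h hh v hv := (mem_normalizer_iff.1 (MinSimple.VModule.le_normalizer_zl T H hh) v).1 hv
  VQ := SQ1.VOf.MinH.zl_le_o2 hm
  Vsq := SQ1.VOf.MinH.sq hm
  VcQ x hx v hv := SQ1.VOf.MinH.o2_cent hm x hx v hv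
  pos := hk

end Cfsg.Agent.Omega.NO3S.OneLine

end

end
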